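import Mathlib

/-!
# Avoidance lemmas over fields with few elements

* `exists_mem_forall_notMem`: a subspace `W` is not covered by `k ≤ #K` subspaces none of which
  contains `W` (sharp bound).
* `exists_forall_notMem_of_subsingleton`: `k < #K` subsingleton subsets of `K` do not cover `K`.
* `exists_dot_eq_zero_ne_zero`: separation of a vector from a line by a covector.
-/

set_option autoImplicit false

namespace Cfsg.Agent.Lib.Helper53.RegUnip

open Cardinal

section subspaces

variable {K : Type*} [Field K] {V : Type*} [AddCommGroup V] [Module K V]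

/-- A subspace `W` is not covered by at most `#K` subspaces, none of which contains `W`. -/
theorem exists_mem_forall_notMem {ι : Type*} [DecidableEq ι] (W : Submodule K V)
    (U : ι → Submodule K V) :
    ∀ s : Finset ι, (∀ i ∈ s, ¬ W ≤ U i) → (s.card : Cardinal) ≤ #K →
      ∃ v ∈ W, ∀ i ∈ s, v ∉ U i := by
  intro s
  induction s using Finset.strongInduction with
  | H s ih =>
    intro hU hK
    by_contra hcon
    push Not at hcon
    -- `s` is nonempty
    obtain ⟨i₀, hi₀, -⟩ := hcon 0 W.zero_mem
    -- private vector for `i₀`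
    have hpriv : ∃ u ∈ W, u ∈ U i₀ ∧ ∀ j ∈ s, j ≠ i₀ → u ∉ U j := by
      have hsub : s.erase i₀ ⊂ s := Finset.erase_ssubset hi₀
      have h1 : ∀ i ∈ s.erase i₀, ¬ W ≤ U i := fun i hi => hU i (Finset.mem_of_mem_erase hi)
      have h2 : ((s.erase i₀).card : Cardinal) ≤ #K := by
        refine le_trans ?_ hK
        exact_mod_cast Finset.card_le_card (Finset.erase_subset _ _)
      obtain ⟨u, huW, hu⟩ := ih (s.erase i₀) hsub h1 h2
      obtain ⟨j, hj, huj⟩ := hcon u huW
      have hji : j = i₀ := by
        by_contra hne
        exact hu j (Finset.mem_erase.mpr ⟨hne, hj⟩) huj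
      subst hji
      exact ⟨u, huW, huj, fun k hk hne => hu k (Finset.mem_erase.mpr ⟨hne, hk⟩)⟩
    obtain ⟨u, huW, hui₀, hu⟩ := hpriv
    obtain ⟨w, hwW, hw⟩ : ∃ w ∈ W, w ∉ U i₀ := by
      have := hU i₀ hi₀
      rw [SetLike.le_def] at this
      push Not at this
      exact this
    -- the map `t ↦ index containing w + t u`
    have hex : ∀ t : K, ∃ j, j ∈ s ∧ w + t • u ∈ U j := fun t =>
      hcon (w + t • u) (W.add_mem hwW (W.smul_mem t huW))
    choose f hfs hf using hex
    have hfne : ∀ t, f t ≠ i₀ := by
      intro t hft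
      apply hw
      have h1 := hf t
      rw [hft] at h1
      have h2 : w = (w + t • u) - t • u := by abel
      rw [h2]
      exact (U i₀).sub_mem h1 ((U i₀).smul_mem t hui₀)
    have hinj : Function.Injective f := by
      intro t t' htt
      by_contra hne
      have h1 := hf t
      have h2 := hf t'
      rw [← htt] at h2
      have h3 : (t - t') • u ∈ U (f t) := by
        have : (t - t') • u = (w + t • u) - (w + t' • u) := by
          rw [sub_smul]; abel
        rw [this]
        exact (U (f t)).sub_mem h1 h2
      have h4 : u ∈ U (f t) := by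
        have hne' : t - t' ≠ 0 := sub_ne_zero.mpr hne
        have : u = (t - t')⁻¹ • ((t - t') • u) := by
          rw [smul_smul, inv_mul_cancel₀ hne', one_smul]
        rw [this]
        exact (U (f t)).smul_mem _ h3
      exact hu (f t) (hfs t) (hfne t) h4
    -- cardinality contradiction
    let F : K → (s.erase i₀ : Finset ι) := fun t =>
      ⟨f t, Finset.mem_erase.mpr ⟨hfne t, hfs t⟩⟩
    have hFinj : Function.Injective F := by
      intro t t' h
      apply hinj
      exact congrArg Subtype.val h
    have hle := Cardinal.lift_mk_le_lift_mk_of_injective hFinj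
    rw [Cardinal.mk_coe_finset, Cardinal.lift_natCast] at hle
    have hlt : (((s.erase i₀).card : ℕ) : Cardinal) < ((s.card : ℕ) : Cardinal) := by
      exact_mod_cast Finset.card_lt_card (Finset.erase_ssubset hi₀)
    have hK' := Cardinal.lift_le.mpr hK
    rw [Cardinal.lift_natCast] at hK'
    exact absurd (lt_of_lt_of_le hlt hK') (not_lt.mpr hle)

/-- Variant for a list of subspaces indexed by `Fin k`. -/
theorem exists_mem_forall_notMem_fin {k : ℕ} (W : Submodule K V) (U : Fin k → Submodule K V)
    (hU : ∀ i, ¬ W ≤ U i) (hK : (k : Cardinal) ≤ #K) : ∃ v ∈ W, ∀ i, v ∉ U i := by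
  obtain ⟨v, hv, h⟩ := exists_mem_forall_notMem W U Finset.univ (fun i _ => hU i)
    (by simpa using hK)
  exact ⟨v, hv, fun i => h i (Finset.mem_univ i)⟩

end subspaces

section scalars

variable {K : Type*}

/-- `k < #K` subsingleton subsets do not cover `K`. -/
theorem exists_forall_notMem_of_subsingleton {k : ℕ} (bad : Fin k → Set K)
    (hb : ∀ i, (bad i).Subsingleton) (hK : (k : Cardinal) < #K) : ∃ t : K, ∀ i, t ∉ bad i := by
  by_contra hcon
  push Not at hcon
  choose f hf using hcon
  have hinj : Function.Injective f := by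
    intro t t' h
    have h1 := hf t
    have h2 := hf t'
    rw [← h] at h2
    exact hb (f t) h1 h2
  have := Cardinal.lift_mk_le_lift_mk_of_injective hinj
  rw [Cardinal.mk_fin, Cardinal.lift_natCast, Cardinal.lift_id'] at this
  exact absurd hK (not_lt.mpr this)

end scalars

section sep

variable {K : Type*} [Field K] {ι : Type*} [Fintype ι] [DecidableEq ι]

/-- A vector `u` outside the line `K w` is separated from it by a covector. -/
theorem exists_dot_eq_zero_ne_zero (w u : ι → K) (h : ∀ c : K, u ≠ c • w) :
    ∃ π : ι → K, π ⬝ᵥ w = 0 ∧ π ⬝ᵥ u ≠ 0 := by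
  by_cases hw : w = 0
  · have hu : u ≠ 0 := by
      have := h 0
      rwa [zero_smul] at this
    obtain ⟨j, hj⟩ : ∃ j, u j ≠ 0 := by
      by_contra hcon
      push Not at hcon
      exact hu (funext hcon)
    refine ⟨Pi.single j 1, ?_, ?_⟩
    · rw [hw, dotProduct_zero]
    · rw [single_one_dotProduct]; exact hj
  · obtain ⟨i, hi⟩ : ∃ i, w i ≠ 0 := by
      by_contra hcon
      push Not at hcon
      exact hw (funext hcon)
    have hu' : u - (u i / w i) • w ≠ 0 := by
      intro h0
      exact h (u i / w i) (sub_eq_zero.mp h0)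
    obtain ⟨j, hj⟩ : ∃ j, (u - (u i / w i) • w) j ≠ 0 := by
      by_contra hcon
      push Not at hcon
      exact hu' (funext hcon)
    refine ⟨Pi.single j 1 - (w j / w i) • Pi.single i 1, ?_, ?_⟩
    · rw [sub_dotProduct, smul_dotProduct, single_one_dotProduct, single_one_dotProduct,
        smul_eq_mul]
      field_simp
      ring
    · rw [sub_dotProduct, smul_dotProduct, single_one_dotProduct, single_one_dotProduct,
        smul_eq_mul]
      simp only [Pi.sub_apply, Pi.smul_apply, smul_eq_mul] at hj
      intro h0
      apply hj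
      rw [← h0]
      field_simp

end sep

end Cfsg.Agent.Lib.Helper53.RegUnip
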