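import Mathlib

/-!
# Products of two regular unipotent matrices: basic definitions

`Good g Y X` : `g = B * C` with `B - 1`, `C - 1` nilpotent, `Y` a cyclic vector of `B`
and `X` a cyclic covector of `C`.  `R1 M`: all `2 × 2` minors of `M` vanish.
-/

set_option autoImplicit false

namespace Cfsg.Agent.Lib.Helper53.RegUnip

open Matrix

variable {K : Type*} [Field K]

section defs

variable {m n : Type*}

/-- all `2 × 2` minors vanish (rank at most one) -/
def R1 (M : Matrix m n K) : Prop := ∀ i k j l, M i j * M k l = M i l * M k j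

theorem R1_vecMulVec (a : m → K) (α : n → K) : R1 (vecMulVec a α) := by
  intro i k j l
  simp only [vecMulVec_apply]
  ring

theorem R1_zero : R1 (0 : Matrix m n K) := by
  intro i k j l
  simp

theorem R1.exists_vecMulVec {M : Matrix m n K} (h : R1 M) : ∃ a α, M = vecMulVec a α := by
  classical
  by_cases h0 : M = 0
  · exact ⟨0, 0, by rw [h0]; ext i j; simp [vecMulVec_apply]⟩
  · obtain ⟨i₀, j₀, hij⟩ : ∃ i₀ j₀, M i₀ j₀ ≠ 0 := by
      by_contra hcon
      push Not at hcon
      exact h0 (by ext i j; exact hcon i j)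
    refine ⟨fun i => M i j₀, fun j => M i₀ j / M i₀ j₀, ?_⟩
    ext i j
    rw [vecMulVec_apply]
    have := h i i₀ j j₀
    field_simp
    rw [this]

theorem R1_iff {M : Matrix m n K} : R1 M ↔ ∃ a α, M = vecMulVec a α :=
  ⟨R1.exists_vecMulVec, fun ⟨a, α, h⟩ => h ▸ R1_vecMulVec a α⟩

theorem R1.mul_mul {ι κ : Type*} [Fintype ι] [Fintype κ] {p q : Type*} {M : Matrix ι κ K} (h : R1 M)
    (P : Matrix p ι K) (Q : Matrix κ q K) : R1 (P * M * Q) := by
  obtain ⟨a, α, rfl⟩ := h.exists_vecMulVec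
  rw [mul_vecMulVec, vecMulVec_mul]
  exact R1_vecMulVec _ _

end defs

section square

variable {ι : Type*} [Fintype ι] [DecidableEq ι]

/-- scalar matrices -/
def IsScal (M : Matrix ι ι K) : Prop := ∃ c : K, M = c • (1 : Matrix ι ι K)

/-- the inductive class: `M - 1` of rank at least two and `M` not scalar -/
def GP (M : Matrix ι ι K) : Prop := ¬ R1 (M - 1) ∧ ¬ IsScal M

/-- `g` is a product `B * C` of unipotent matrices with `Y` cyclic for `B` and `X` cyclic
for the transpose of `C`. -/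
def Good (g : Matrix ι ι K) (Y X : ι → K) : Prop :=
  ∃ B C : Matrix ι ι K, g = B * C ∧ (B - 1) ^ Fintype.card ι = 0 ∧ (C - 1) ^ Fintype.card ι = 0 ∧
    ((B - 1) ^ (Fintype.card ι - 1)) *ᵥ Y ≠ 0 ∧ X ᵥ* ((C - 1) ^ (Fintype.card ι - 1)) ≠ 0

theorem conj_sub_one_pow (P Q : Matrix ι ι K) (hQP : Q * P = 1) (hPQ : P * Q = 1)
    (B : Matrix ι ι K) (k : ℕ) : (P * B * Q - 1) ^ k = P * (B - 1) ^ k * Q := by
  have h1 : P * B * Q - 1 = P * (B - 1) * Q := by
    rw [Matrix.mul_sub, Matrix.sub_mul, Matrix.mul_one, hPQ]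
  rw [h1]
  induction k with
  | zero => simp [hPQ]
  | succ k ih =>
    rw [pow_succ, ih, pow_succ]
    calc P * (B - 1) ^ k * Q * (P * (B - 1) * Q)
        = P * (B - 1) ^ k * (Q * P) * (B - 1) * Q := by simp only [Matrix.mul_assoc]
      _ = P * ((B - 1) ^ k * (B - 1)) * Q := by rw [hQP]; simp only [Matrix.mul_assoc, Matrix.mul_one]

/-- conjugation invariance of `Good` -/
theorem Good.of_conj {g : Matrix ι ι K} {Y X : ι → K} (P Q : Matrix ι ι K) (hPQ : P * Q = 1)
    (hQP : Q * P = 1) (h : Good (Q * g * P) (Q *ᵥ Y) (X ᵥ* P)) : Good g Y X := by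
  obtain ⟨B, C, hBC, hB, hC, hY, hX⟩ := h
  refine ⟨P * B * Q, P * C * Q, ?_, ?_, ?_, ?_, ?_⟩
  · calc g = (P * Q) * g * (P * Q) := by rw [hPQ]; simp
      _ = P * (Q * g * P) * Q := by simp only [Matrix.mul_assoc]
      _ = P * (B * C) * Q := by rw [hBC]
      _ = P * B * (Q * P) * C * Q := by rw [hQP]; simp only [Matrix.mul_assoc, Matrix.one_mul]
      _ = P * B * Q * (P * C * Q) := by simp only [Matrix.mul_assoc]
  · rw [conj_sub_one_pow P Q hQP hPQ, hB]; simp
  · rw [conj_sub_one_pow P Q hQP hPQ, hC]; simp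
  · rw [conj_sub_one_pow P Q hQP hPQ]
    intro h0
    apply hY
    have : Q *ᵥ ((P * (B - 1) ^ (Fintype.card ι - 1) * Q) *ᵥ Y) = 0 := by rw [h0]; simp
    rw [Matrix.mulVec_mulVec, ← Matrix.mul_assoc, ← Matrix.mul_assoc, hQP, Matrix.one_mul,
      ← Matrix.mulVec_mulVec] at this
    exact this
  · rw [conj_sub_one_pow P Q hQP hPQ]
    intro h0
    apply hX
    have : (X ᵥ* (P * (C - 1) ^ (Fintype.card ι - 1) * Q)) ᵥ* P = 0 := by rw [h0]; simp
    rw [Matrix.vecMul_vecMul, Matrix.mul_assoc, hQP, Matrix.mul_one,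
      ← Matrix.vecMul_vecMul] at this
    exact this

variable {κ : Type*} [Fintype κ] [DecidableEq κ]

/-- reindexing invariance of `Good` -/
theorem Good.of_reindex {g : Matrix ι ι K} {Y X : ι → K} (e : ι ≃ κ)
    (h : Good (Matrix.reindex e e g) (Y ∘ e.symm) (X ∘ e.symm)) : Good g Y X := by
  obtain ⟨B, C, hBC, hB, hC, hY, hX⟩ := h
  have hcard : Fintype.card κ = Fintype.card ι := (Fintype.card_congr e).symm
  rw [hcard] at hB hC hY hX
  let φ := Matrix.reindexAlgEquiv K K e.symm
  have hφ : ∀ M : Matrix κ κ K, φ M = M.submatrix e e := fun M => rfl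
  refine ⟨φ B, φ C, ?_, ?_, ?_, ?_, ?_⟩
  · rw [← map_mul, ← hBC, hφ]
    ext i j
    simp
  · rw [← map_one φ, ← map_sub, ← map_pow, hB, map_zero]
  · rw [← map_one φ, ← map_sub, ← map_pow, hC, map_zero]
  · rw [← map_one φ, ← map_sub, ← map_pow, hφ]
    intro h0
    apply hY
    have h1 := Matrix.submatrix_mulVec_equiv ((B - 1) ^ (Fintype.card ι - 1)) Y e e
    rw [h0] at h1
    ext k
    have := congrFun h1 (e.symm k)
    simpa using this.symm
  · rw [← map_one φ, ← map_sub, ← map_pow, hφ]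
    intro h0
    apply hX
    have h1 := Matrix.submatrix_vecMul_equiv ((C - 1) ^ (Fintype.card ι - 1)) X e e
    rw [h0] at h1
    ext k
    have := congrFun h1 (e.symm k)
    simpa using this.symm

end square

section blocks

variable {d : ℕ}

/-- powers of a lower block-nilpotent matrix -/
theorem lower_pow (y : Fin d → K) (N : Matrix (Fin d) (Fin d) K) (k : ℕ) :
    (fromBlocks (0 : Matrix Unit Unit K) 0 (replicateCol Unit y) N) ^ (k + 1) =
      fromBlocks 0 0 (replicateCol Unit ((N ^ k) *ᵥ y)) (N ^ (k + 1)) := by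
  induction k with
  | zero => simp
  | succ k ih =>
    rw [pow_succ, ih, fromBlocks_multiply]
    congr 1
    · simp
    · simp
    · rw [Matrix.mul_zero, zero_add, ← replicateCol_mulVec]
    · rw [Matrix.mul_zero, zero_add, ← pow_succ]

/-- powers of an upper block-nilpotent matrix -/
theorem upper_pow (x : Fin d → K) (N : Matrix (Fin d) (Fin d) K) (k : ℕ) :
    (fromBlocks (0 : Matrix Unit Unit K) (replicateRow Unit x) 0 N) ^ (k + 1) =
      fromBlocks 0 (replicateRow Unit (x ᵥ* (N ^ k))) 0 (N ^ (k + 1)) := by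
  induction k with
  | zero => simp
  | succ k ih =>
    rw [pow_succ', ih, fromBlocks_multiply]
    congr 1
    · simp
    · rw [Matrix.zero_mul, zero_add, ← replicateRow_vecMul]
    · simp
    · rw [Matrix.zero_mul, zero_add, ← pow_succ']

theorem card_unit_sum_fin : Fintype.card (Unit ⊕ Fin d) = d + 1 := by
  rw [Fintype.card_sum, Fintype.card_unit, Fintype.card_fin, add_comm]

theorem lower_sub_one (y : Fin d → K) (B : Matrix (Fin d) (Fin d) K) :
    fromBlocks (1 : Matrix Unit Unit K) 0 (replicateCol Unit y) B - 1 =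
      fromBlocks 0 0 (replicateCol Unit y) (B - 1) := by
  rw [← fromBlocks_one, sub_eq_add_neg, fromBlocks_neg, fromBlocks_add]
  simp [sub_eq_add_neg]

theorem upper_sub_one (x : Fin d → K) (C : Matrix (Fin d) (Fin d) K) :
    fromBlocks (1 : Matrix Unit Unit K) (replicateRow Unit x) 0 C - 1 =
      fromBlocks 0 (replicateRow Unit x) 0 (C - 1) := by
  rw [← fromBlocks_one, sub_eq_add_neg, fromBlocks_neg, fromBlocks_add]
  simp [sub_eq_add_neg]

/-- the induction step: extend a factorisation of the Schur complement -/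
theorem Good.block (hd : 1 ≤ d) {S : Matrix (Fin d) (Fin d) K} {y x : Fin d → K}
    (h : Good S y x) (Yt Xt : Unit ⊕ Fin d → K) (hY : Yt (Sum.inl ()) ≠ 0)
    (hX : Xt (Sum.inl ()) ≠ 0) :
    Good (fromBlocks (1 : Matrix Unit Unit K) (replicateRow Unit x) (replicateCol Unit y)
      (S + vecMulVec y x)) Yt Xt := by
  obtain ⟨B, C, hBC, hB, hC, hYB, hXC⟩ := h
  rw [Fintype.card_fin] at hB hC hYB hXC
  obtain ⟨e, rfl⟩ : ∃ e, d = e + 1 := ⟨d - 1, by omega⟩
  rw [Nat.add_sub_cancel] at hYB hXC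
  refine ⟨fromBlocks 1 0 (replicateCol Unit y) B, fromBlocks 1 (replicateRow Unit x) 0 C,
    ?_, ?_, ?_, ?_, ?_⟩
  · rw [fromBlocks_multiply]
    congr 1
    · simp
    · simp
    · simp
    · rw [hBC, vecMulVec_eq Unit]; exact add_comm _ _
  · rw [card_unit_sum_fin, lower_sub_one, lower_pow, hB, pow_succ, hB]
    simp
  · rw [card_unit_sum_fin, upper_sub_one, upper_pow, hC, pow_succ, hC]
    simp
  · rw [card_unit_sum_fin, Nat.add_sub_cancel, lower_sub_one, lower_pow, hB, fromBlocks_mulVec]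
    intro h0
    apply hYB
    have h1 := congrArg (fun v : Unit ⊕ Fin (e + 1) → K => v ∘ Sum.inr) h0
    simp only [Sum.elim_comp_inr] at h1
    ext i
    have h2 := congrFun h1 i
    simp only [Matrix.zero_mulVec, add_zero, Function.comp_apply, Pi.zero_apply,
      Pi.add_apply] at h2
    have h3 : (replicateCol Unit ((B - 1) ^ e *ᵥ y) *ᵥ (Yt ∘ Sum.inl)) i =
        ((B - 1) ^ e *ᵥ y) i * Yt (Sum.inl ()) := by
      simp [Matrix.mulVec, dotProduct]
    rw [h3] at h2
    rcases mul_eq_zero.mp h2 with h4 | h4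
    · simpa using h4
    · exact absurd h4 hY
  · rw [card_unit_sum_fin, Nat.add_sub_cancel, upper_sub_one, upper_pow, hC, vecMul_fromBlocks]
    intro h0
    apply hXC
    have h1 := congrArg (fun v : Unit ⊕ Fin (e + 1) → K => v ∘ Sum.inr) h0
    simp only [Sum.elim_comp_inr] at h1
    ext i
    have h2 := congrFun h1 i
    simp only [Matrix.vecMul_zero, add_zero, Function.comp_apply, Pi.zero_apply,
      Pi.add_apply] at h2
    have h3 : ((Xt ∘ Sum.inl) ᵥ* replicateRow Unit (x ᵥ* (C - 1) ^ e)) i =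
        Xt (Sum.inl ()) * (x ᵥ* (C - 1) ^ e) i := by
      simp [Matrix.vecMul, dotProduct]
    rw [h3] at h2
    rcases mul_eq_zero.mp h2 with h4 | h4
    · exact absurd h4 hX
    · simpa using h4

end blocks

end Cfsg.Agent.Lib.Helper53.RegUnip
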