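import Cfsg.Agent.Lib.Helper53.RegUnip.Stage

/-!
# Stage 2: conversion to block form
-/

set_option autoImplicit false
set_option linter.unusedSectionVars false

namespace Cfsg.Agent.Lib.Helper53.RegUnip

open Matrix Cardinal Module

variable {K : Type*} [Field K]

section basis

variable {ι : Type*} [Fintype ι] [DecidableEq ι]

theorem det_one_add_vecMulVec (u v : ι → K) : (1 + vecMulVec u v).det = 1 + v ⬝ᵥ u := by
  rw [vecMulVec_eq Unit, det_one_add_replicateCol_mul_replicateRow]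

/-- an invertible matrix with prescribed first column `e` such that `π` becomes the first
coordinate functional -/
theorem exists_basis_change' (i₀ : ι) (e π : ι → K) (hπe : π ⬝ᵥ e = 1) :
    ∃ P Q : Matrix ι ι K, P * Q = 1 ∧ Q * P = 1 ∧ P *ᵥ Pi.single i₀ 1 = e ∧
      Pi.single i₀ 1 ᵥ* Q = π ∧
      ∀ j, j ≠ i₀ → e j = 0 → Pi.single j 1 ᵥ* P = Pi.single j 1 := by
  have he0 : e ≠ 0 := by
    rintro rfl
    rw [dotProduct_zero] at hπe
    exact zero_ne_one hπe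
  -- the covector `ζ`
  obtain ⟨ζ, hζ0, hζe⟩ : ∃ ζ : ι → K, ζ ⬝ᵥ Pi.single i₀ 1 = 1 ∧ ζ ⬝ᵥ e ≠ 0 := by
    by_cases hi : e i₀ = 0
    · obtain ⟨k, hk⟩ : ∃ k, e k ≠ 0 := by
        by_contra hcon
        push Not at hcon
        exact he0 (funext hcon)
      have hki : k ≠ i₀ := by
        rintro rfl
        exact hk hi
      refine ⟨Pi.single i₀ 1 + Pi.single k 1, ?_, ?_⟩
      · rw [add_dotProduct, single_one_dotProduct, single_one_dotProduct, Pi.single_eq_same,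
          Pi.single_eq_of_ne hki, add_zero]
      · rw [add_dotProduct, single_one_dotProduct, single_one_dotProduct, hi, zero_add]
        exact hk
    · refine ⟨Pi.single i₀ 1, ?_, ?_⟩
      · rw [single_one_dotProduct, Pi.single_eq_same]
      · rw [single_one_dotProduct]
        exact hi
  set T : Matrix ι ι K := 1 + vecMulVec (e - Pi.single i₀ 1) ζ with hT
  have hTdet : T.det = ζ ⬝ᵥ e := by
    rw [hT, det_one_add_vecMulVec, dotProduct_sub, hζ0]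
    ring
  have hTe : T *ᵥ Pi.single i₀ 1 = e := by
    rw [hT, Matrix.add_mulVec, Matrix.one_mulVec, vecMulVec_mulVec, hζ0]
    simp
  set π₁ : ι → K := π ᵥ* T with hπ₁
  have hπ₁0 : π₁ ⬝ᵥ Pi.single i₀ 1 = 1 := by
    rw [hπ₁, ← dotProduct_mulVec, hTe, hπe]
  set R : Matrix ι ι K := 1 + vecMulVec (Pi.single i₀ 1) (Pi.single i₀ 1 - π₁) with hR
  have hRdet : R.det = 1 := by
    rw [hR, det_one_add_vecMulVec, sub_dotProduct, hπ₁0, single_one_dotProduct,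
      Pi.single_eq_same]
    ring
  have hRe : R *ᵥ Pi.single i₀ 1 = Pi.single i₀ 1 := by
    rw [hR, Matrix.add_mulVec, Matrix.one_mulVec, vecMulVec_mulVec, sub_dotProduct, hπ₁0,
      single_one_dotProduct, Pi.single_eq_same]
    simp
  have hπR : π₁ ᵥ* R = Pi.single i₀ 1 := by
    rw [hR, Matrix.vecMul_add, Matrix.vecMul_one, vecMul_vecMulVec, hπ₁0, one_smul]
    abel
  set P : Matrix ι ι K := T * R with hP
  have hPdet : IsUnit P.det := by
    rw [hP, Matrix.det_mul, hTdet, hRdet, mul_one]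
    exact Ne.isUnit hζe
  have hπP : π ᵥ* P = Pi.single i₀ 1 := by
    rw [hP, ← Matrix.vecMul_vecMul, ← hπ₁, hπR]
  refine ⟨P, P⁻¹, Matrix.mul_nonsing_inv P hPdet, Matrix.nonsing_inv_mul P hPdet, ?_, ?_, ?_⟩
  · rw [hP, ← Matrix.mulVec_mulVec, hRe, hTe]
  · rw [← hπP, Matrix.vecMul_vecMul, Matrix.mul_nonsing_inv P hPdet, Matrix.vecMul_one]
  · intro j hj hej
    have h1 : Pi.single j (1 : K) ᵥ* T = Pi.single j 1 := by
      rw [hT, Matrix.vecMul_add, Matrix.vecMul_one, vecMul_vecMulVec, single_one_dotProduct,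
        Pi.sub_apply, hej, Pi.single_eq_of_ne hj, sub_zero, zero_smul, add_zero]
    have h2 : Pi.single j (1 : K) ᵥ* R = Pi.single j 1 := by
      rw [hR, Matrix.vecMul_add, Matrix.vecMul_one, vecMul_vecMulVec, single_one_dotProduct,
        Pi.single_eq_of_ne hj, zero_smul, add_zero]
    rw [hP, ← Matrix.vecMul_vecMul, h1, h2]

theorem exists_basis_change (i₀ : ι) (e π : ι → K) (hπe : π ⬝ᵥ e = 1) :
    ∃ P Q : Matrix ι ι K, P * Q = 1 ∧ Q * P = 1 ∧ P *ᵥ Pi.single i₀ 1 = e ∧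
      Pi.single i₀ 1 ᵥ* Q = π := by
  obtain ⟨P, Q, h1, h2, h3, h4, _⟩ := exists_basis_change' i₀ e π hπe
  exact ⟨P, Q, h1, h2, h3, h4⟩

/-- every nonzero vector pairs to one with some covector -/
theorem exists_dot_eq_one (a : ι → K) (ha : a ≠ 0) : ∃ β : ι → K, β ⬝ᵥ a = 1 := by
  obtain ⟨j, hj⟩ : ∃ j, a j ≠ 0 := by
    by_contra hcon
    push Not at hcon
    exact ha (funext hcon)
  refine ⟨(a j)⁻¹ • Pi.single j 1, ?_⟩
  rw [smul_dotProduct, single_one_dotProduct, smul_eq_mul, inv_mul_cancel₀ hj]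

/-- the two-point basis change: `P e_{i₀} = a` and `e_{i₁}^* P⁻¹ = α` when `α a = 0` -/
theorem exists_basis_change_two (i₀ i₁ : ι) (h01 : i₁ ≠ i₀) (a α : ι → K) (ha : a ≠ 0)
    (hα : α ≠ 0) (hαa : α ⬝ᵥ a = 0) :
    ∃ P Q : Matrix ι ι K, P * Q = 1 ∧ Q * P = 1 ∧ P *ᵥ Pi.single i₀ 1 = a ∧
      Pi.single i₁ 1 ᵥ* Q = α := by
  obtain ⟨b, hb⟩ : ∃ b : ι → K, α ⬝ᵥ b = 1 := by
    obtain ⟨b, hb⟩ := exists_dot_eq_one α hα
    exact ⟨b, by rw [dotProduct_comm]; exact hb⟩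
  obtain ⟨P₁, Q₁, hPQ₁, hQP₁, hP₁, hQ₁⟩ := exists_basis_change i₁ b α hb
  set a' : ι → K := Q₁ *ᵥ a with ha'
  have ha'1 : a' i₁ = 0 := by
    have := single_one_dotProduct (α := K) i₁ (Q₁ *ᵥ a)
    rw [dotProduct_mulVec, hQ₁, hαa] at this
    rw [ha', ← this]
  have hPa' : P₁ *ᵥ a' = a := by
    rw [ha', Matrix.mulVec_mulVec, hPQ₁, Matrix.one_mulVec]
  have ha'0 : a' ≠ 0 := by
    intro h0
    apply ha
    rw [← hPa', h0, Matrix.mulVec_zero]
  obtain ⟨π', hπ'⟩ := exists_dot_eq_one a' ha'0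
  obtain ⟨P₂, Q₂, hPQ₂, hQP₂, hP₂, hQ₂, hrow⟩ := exists_basis_change' i₀ a' π' hπ'
  have hrow' : Pi.single i₁ (1 : K) ᵥ* Q₂ = Pi.single i₁ 1 := by
    calc Pi.single i₁ (1 : K) ᵥ* Q₂ = (Pi.single i₁ (1 : K) ᵥ* P₂) ᵥ* Q₂ := by
          rw [hrow i₁ h01 ha'1]
      _ = Pi.single i₁ (1 : K) ᵥ* (P₂ * Q₂) := Matrix.vecMul_vecMul _ _ _
      _ = Pi.single i₁ 1 := by rw [hPQ₂, Matrix.vecMul_one]
  refine ⟨P₁ * P₂, Q₂ * Q₁, ?_, ?_, ?_, ?_⟩
  · calc P₁ * P₂ * (Q₂ * Q₁) = P₁ * (P₂ * Q₂) * Q₁ := by simp only [Matrix.mul_assoc]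
      _ = 1 := by rw [hPQ₂, Matrix.mul_one, hPQ₁]
  · calc Q₂ * Q₁ * (P₁ * P₂) = Q₂ * (Q₁ * P₁) * P₂ := by simp only [Matrix.mul_assoc]
      _ = 1 := by rw [hQP₁, Matrix.mul_one, hQP₂]
  · rw [← Matrix.mulVec_mulVec, hP₂, hPa']
  · rw [← Matrix.vecMul_vecMul, hrow', hQ₁]

end basis

section convert

variable {d : ℕ}

/-- vector `(1 ; y)` -/
def consVec (a : K) (y : Fin d → K) : Unit ⊕ Fin d → K := Sum.elim (fun _ => a) y

theorem fromBlocks_mulVec_single (x y : Fin d → K) (D : Matrix (Fin d) (Fin d) K) :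
    fromBlocks (1 : Matrix Unit Unit K) (replicateRow Unit x) (replicateCol Unit y) D *ᵥ
      Pi.single (Sum.inl ()) 1 = consVec 1 y := by
  rw [Matrix.mulVec_single_one]
  ext i
  rcases i with ⟨⟩ | i <;> simp [consVec]

theorem single_vecMul_fromBlocks (x y : Fin d → K) (D : Matrix (Fin d) (Fin d) K) :
    Pi.single (Sum.inl ()) 1 ᵥ*
      fromBlocks (1 : Matrix Unit Unit K) (replicateRow Unit x) (replicateCol Unit y) D =
        consVec 1 x := by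
  rw [Matrix.single_one_vecMul]
  ext i
  rcases i with ⟨⟩ | i <;> simp [consVec]

/-- Stage 2: conversion of the pair `(e, π)` to block form. -/
theorem convert (g : Matrix (Unit ⊕ Fin d) (Unit ⊕ Fin d) K) (e π : Unit ⊕ Fin d → K)
    (hπe : π ⬝ᵥ e = 1) (hπhe : π ⬝ᵥ ((g - 1) *ᵥ e) = 0) :
    ∃ (P Q : Matrix (Unit ⊕ Fin d) (Unit ⊕ Fin d) K) (x y : Fin d → K)
      (S : Matrix (Fin d) (Fin d) K), P * Q = 1 ∧ Q * P = 1 ∧
      Q * g * P = fromBlocks 1 (replicateRow Unit x) (replicateCol Unit y) (S + vecMulVec y x) ∧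
      (∀ v, (Q *ᵥ v) (Sum.inl ()) = π ⬝ᵥ v) ∧ (∀ ζ, (ζ ᵥ* P) (Sum.inl ()) = ζ ⬝ᵥ e) ∧
      ((g - 1) *ᵥ e ≠ 0 → y ≠ 0) ∧ (π ᵥ* (g - 1) ≠ 0 → x ≠ 0) ∧
      Q * Amat g e π * P = fromBlocks 0 0 0 (S - 1) := by
  obtain ⟨P, Q, hPQ, hQP, hPe, hQπ⟩ := exists_basis_change (Sum.inl ()) e π hπe
  set ε₀ : Unit ⊕ Fin d → K := Pi.single (Sum.inl ()) 1 with hε₀
  set gt : Matrix (Unit ⊕ Fin d) (Unit ⊕ Fin d) K := Q * g * P with hgt
  have hQv : ∀ v, (Q *ᵥ v) (Sum.inl ()) = π ⬝ᵥ v := by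
    intro v
    rw [← hQπ, ← dotProduct_mulVec, single_one_dotProduct]
  have hζP : ∀ ζ, (ζ ᵥ* P) (Sum.inl ()) = ζ ⬝ᵥ e := by
    intro ζ
    rw [← hPe, dotProduct_mulVec, dotProduct_single_one]
  have hQe : Q *ᵥ e = ε₀ := by
    rw [← hPe, Matrix.mulVec_mulVec, hQP, Matrix.one_mulVec]
  have hπP : π ᵥ* P = ε₀ := by
    rw [← hQπ, Matrix.vecMul_vecMul, hQP, Matrix.vecMul_one]
  have hge : g *ᵥ e = e + (g - 1) *ᵥ e := by
    rw [Matrix.sub_mulVec, Matrix.one_mulVec]; abel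
  have hπge : π ⬝ᵥ (g *ᵥ e) = 1 := by
    rw [hge, dotProduct_add, hπe, hπhe, add_zero]
  -- first column and first row of `gt`
  have hcol : gt *ᵥ ε₀ = Q *ᵥ (g *ᵥ e) := by
    rw [hgt, ← hPe, Matrix.mulVec_mulVec, Matrix.mulVec_mulVec]
  have hrow : ε₀ ᵥ* gt = (π ᵥ* g) ᵥ* P := by
    rw [hgt, ← hQπ, Matrix.vecMul_vecMul, Matrix.vecMul_vecMul, Matrix.mul_assoc]
  have h00 : gt (Sum.inl ()) (Sum.inl ()) = 1 := by
    have h1 := congrFun hcol (Sum.inl ())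
    rw [hQv, hπge, hε₀, Matrix.mulVec_single_one] at h1
    exact h1
  set x : Fin d → K := fun j => gt (Sum.inl ()) (Sum.inr j) with hx
  set y : Fin d → K := fun i => gt (Sum.inr i) (Sum.inl ()) with hy
  set S : Matrix (Fin d) (Fin d) K := gt.toBlocks₂₂ - vecMulVec y x with hS
  have hblock : gt = fromBlocks 1 (replicateRow Unit x) (replicateCol Unit y)
      (S + vecMulVec y x) := by
    rw [hS, sub_add_cancel]
    ext i j
    rcases i with ⟨⟩ | i <;> rcases j with ⟨⟩ | j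
    · simp [h00]
    · simp [hx]
    · simp [hy]
    · simp [toBlocks₂₂]
  have hcol' : gt *ᵥ ε₀ = consVec 1 y := by
    rw [hblock, hε₀, fromBlocks_mulVec_single]
  have hrow' : ε₀ ᵥ* gt = consVec 1 x := by
    rw [hblock, hε₀, single_vecMul_fromBlocks]
  refine ⟨P, Q, x, y, S, hPQ, hQP, hblock, hQv, hζP, ?_, ?_, ?_⟩
  · -- `y ≠ 0`
    intro hhe hy0
    apply hhe
    have h1 : Q *ᵥ (g *ᵥ e) = Q *ᵥ e := by
      rw [← hcol, hcol', hQe, hy0]
      ext i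
      rcases i with ⟨⟩ | i <;> simp [consVec, hε₀]
    have h2 : g *ᵥ e = e := by
      calc g *ᵥ e = (P * Q) *ᵥ (g *ᵥ e) := by rw [hPQ, Matrix.one_mulVec]
        _ = P *ᵥ (Q *ᵥ (g *ᵥ e)) := (Matrix.mulVec_mulVec (g *ᵥ e) P Q).symm
        _ = P *ᵥ (Q *ᵥ e) := by rw [h1]
        _ = (P * Q) *ᵥ e := Matrix.mulVec_mulVec e P Q
        _ = e := by rw [hPQ, Matrix.one_mulVec]
    rw [Matrix.sub_mulVec, Matrix.one_mulVec, h2, sub_self]
  · -- `x ≠ 0`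
    intro hπh hx0
    apply hπh
    have h1 : (π ᵥ* g) ᵥ* P = π ᵥ* P := by
      rw [← hrow, hrow', hπP, hx0]
      ext i
      rcases i with ⟨⟩ | i <;> simp [consVec, hε₀]
    have h2 : π ᵥ* g = π := by
      calc π ᵥ* g = (π ᵥ* g) ᵥ* (P * Q) := by rw [hPQ, Matrix.vecMul_one]
        _ = ((π ᵥ* g) ᵥ* P) ᵥ* Q := (Matrix.vecMul_vecMul (π ᵥ* g) P Q).symm
        _ = (π ᵥ* P) ᵥ* Q := by rw [h1]
        _ = π ᵥ* (P * Q) := Matrix.vecMul_vecMul π P Q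
        _ = π := by rw [hPQ, Matrix.vecMul_one]
    rw [Matrix.vecMul_sub, Matrix.vecMul_one, h2, sub_self]
  · -- the matrix `Amat`
    have h1 : Q * Amat g e π * P = gt - 1 - vecMulVec (gt *ᵥ ε₀) (ε₀ ᵥ* gt) + vecMulVec ε₀ ε₀ := by
      unfold Amat
      rw [Matrix.mul_add, Matrix.add_mul, Matrix.mul_sub, Matrix.sub_mul, Matrix.mul_sub,
        Matrix.sub_mul, Matrix.mul_one, hQP, mul_vecMulVec, vecMulVec_mul, mul_vecMulVec,
        vecMulVec_mul, hQe, hπP, ← hcol, ← hrow]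
    rw [h1, hcol', hrow']
    ext i j
    rcases i with ⟨⟩ | i <;> rcases j with ⟨⟩ | j
    · simp [hblock, consVec, vecMulVec_apply, hε₀]
    · simp [hblock, consVec, vecMulVec_apply, hε₀]
    · simp [hblock, consVec, vecMulVec_apply, hε₀]
    · simp only [hblock, consVec, vecMulVec_apply, hε₀, Matrix.add_apply, Matrix.sub_apply,
        fromBlocks_apply₂₂, Sum.elim_inr, Matrix.one_apply, Sum.inr.injEq, Pi.single_apply,
        reduceCtorEq, if_false, mul_zero, add_zero]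
      ring

end convert

end Cfsg.Agent.Lib.Helper53.RegUnip
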