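import Cfsg.Agent.Lib.Helper53.RegUnip.Avoid
import Cfsg.Agent.Lib.Helper53.RegUnip.Basic

/-!
# Choosing non-eigenvectors outside two subspaces
-/

set_option autoImplicit false

namespace Cfsg.Agent.Lib.Helper53.RegUnip

open Matrix Cardinal

set_option linter.unusedSectionVars false

variable {K : Type*} [Field K] {ι : Type*} [Fintype ι] [DecidableEq ι]

/-- kernel of a covector -/
def kerDot (X : ι → K) : Submodule K (ι → K) where
  carrier := {v | X ⬝ᵥ v = 0}
  add_mem' := by
    intro a b ha hb
    simp only [Set.mem_ofPred_eq] at *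
    rw [dotProduct_add, ha, hb, add_zero]
  zero_mem' := dotProduct_zero X
  smul_mem' := by
    intro c v hv
    simp only [Set.mem_ofPred_eq] at *
    rw [dotProduct_smul, hv, smul_zero]

theorem mem_kerDot {X v : ι → K} : v ∈ kerDot X ↔ X ⬝ᵥ v = 0 := Iff.rfl

theorem kerDot_ne_top {X : ι → K} (hX : X ≠ 0) : kerDot X ≠ ⊤ := by
  intro h
  apply hX
  ext i
  have : (Pi.single i 1 : ι → K) ∈ kerDot X := by rw [h]; trivial
  rw [mem_kerDot, dotProduct_single_one] at this
  exact this

/-- preimage of the line `K Y` under `h` -/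
def preLine (h : Matrix ι ι K) (Y : ι → K) : Submodule K (ι → K) :=
  Submodule.comap (Matrix.mulVecLin h) (Submodule.span K {Y})

theorem mem_preLine {h : Matrix ι ι K} {Y v : ι → K} :
    v ∈ preLine h Y ↔ ∃ c : K, c • Y = h *ᵥ v := by
  unfold preLine
  rw [Submodule.mem_comap, Submodule.mem_span_singleton]
  rfl

/-- if `h` has rank at least two, its image is not inside a line -/
theorem exists_mulVec_notMem_line {h : Matrix ι ι K} (hR : ¬ R1 h) (Y : ι → K) :
    ∃ v, ∀ c : K, h *ᵥ v ≠ c • Y := by
  by_contra hcon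
  push Not at hcon
  choose β hβ using fun j => hcon (Pi.single j 1)
  apply hR
  have : h = vecMulVec Y β := by
    ext i j
    have := congrFun (hβ j) i
    rw [Matrix.mulVec_single_one] at this
    simp only [Matrix.col_apply, Pi.smul_apply, smul_eq_mul] at this
    rw [vecMulVec_apply, mul_comm]
    exact this
  rw [this]
  exact R1_vecMulVec _ _

theorem preLine_ne_top {h : Matrix ι ι K} (hR : ¬ R1 h) (Y : ι → K) : preLine h Y ≠ ⊤ := by
  intro htop
  obtain ⟨v, hv⟩ := exists_mulVec_notMem_line hR Y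
  have : v ∈ preLine h Y := by rw [htop]; trivial
  obtain ⟨c, hc⟩ := mem_preLine.mp this
  exact hv c hc.symm

/-- If `h` and `1 + h` are invertible and `h` is not scalar, there is a vector outside two given
proper subspaces which is not an eigenvector of `h`. -/
theorem exists_noneigen (h : Matrix ι ι K) (hdet : h.det ≠ 0) (hdet1 : (1 + h).det ≠ 0)
    (hns : ¬ IsScal h) (U₁ U₂ : Submodule K (ι → K)) (hU₁ : U₁ ≠ ⊤) (hU₂ : U₂ ≠ ⊤) :
    ∃ e, e ∉ U₁ ∧ e ∉ U₂ ∧ ∀ μ : K, h *ᵥ e ≠ μ • e := by
  classical
  let f : Module.End K (ι → K) := Matrix.toLin' h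
  have hf : ∀ v, f v = h *ᵥ v := fun v => Matrix.toLin'_apply h v
  let T : Finset K := (Module.End.finite_hasEigenvalue f).toFinset
  have hT : ∀ μ (v : ι → K), v ≠ 0 → h *ᵥ v = μ • v → μ ∈ T := by
    intro μ v hv hμ
    rw [Set.Finite.mem_toFinset]
    apply Module.End.hasEigenvalue_of_hasEigenvector (x := v)
    rw [Module.End.hasEigenvector_iff, Module.End.mem_eigenspace_iff, hf]
    exact ⟨hμ, hv⟩
  have hTex : ∀ μ ∈ T, ∃ v : ι → K, v ≠ 0 ∧ h *ᵥ v = μ • v := by
    intro μ hμ
    rw [Set.Finite.mem_toFinset] at hμ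
    obtain ⟨v, hv⟩ := Module.End.HasEigenvalue.exists_hasEigenvector hμ
    rw [Module.End.hasEigenvector_iff, Module.End.mem_eigenspace_iff, hf] at hv
    exact ⟨v, hv.2, hv.1⟩
  have h0T : (0 : K) ∉ T := by
    intro h0
    obtain ⟨v, hv, hv0⟩ := hTex 0 h0
    rw [zero_smul] at hv0
    exact hdet (Matrix.exists_mulVec_eq_zero_iff.mp ⟨v, hv, hv0⟩)
  have h1T : (-1 : K) ∉ T := by
    intro h1
    obtain ⟨v, hv, hv1⟩ := hTex (-1) h1
    apply hdet1
    apply Matrix.exists_mulVec_eq_zero_iff.mp
    refine ⟨v, hv, ?_⟩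
    rw [Matrix.add_mulVec, Matrix.one_mulVec, hv1]
    simp
  -- the family of subspaces
  let s : Finset (Submodule K (ι → K)) :=
    insert U₁ (insert U₂ (T.image (fun μ => Module.End.eigenspace f μ)))
  have hcard : (s.card : Cardinal) ≤ #K := by
    have h1 : s.card ≤ T.card + 2 := by
      calc s.card ≤ (insert U₂ (T.image (fun μ => Module.End.eigenspace f μ))).card + 1 :=
            Finset.card_insert_le _ _
        _ ≤ ((T.image (fun μ => Module.End.eigenspace f μ)).card + 1) + 1 := by
            have := Finset.card_insert_le U₂ (T.image (fun μ => Module.End.eigenspace f μ))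
            omega
        _ ≤ T.card + 2 := by
            have := Finset.card_image_le (s := T) (f := fun μ => Module.End.eigenspace f μ)
            omega
    have h2 : (insert (0 : K) (insert (-1 : K) T)).card = T.card + 2 := by
      rw [Finset.card_insert_of_notMem, Finset.card_insert_of_notMem h1T]
      rw [Finset.mem_insert]
      push Not
      refine ⟨?_, h0T⟩
      intro h01
      have : (1 : K) = 0 := by linear_combination h01
      exact one_ne_zero this
    have h3 : (((insert (0 : K) (insert (-1 : K) T)).card : ℕ) : Cardinal) ≤ #K := by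
      rw [← Cardinal.mk_coe_finset]
      exact Cardinal.mk_set_le _
    rw [h2] at h3
    refine le_trans ?_ h3
    exact_mod_cast h1
  have hprop : ∀ W' ∈ s, ¬ (⊤ : Submodule K (ι → K)) ≤ id W' := by
    intro W' hW' htop
    have htop' : W' = ⊤ := top_le_iff.mp htop
    simp only [s, Finset.mem_insert, Finset.mem_image] at hW'
    rcases hW' with rfl | rfl | ⟨μ, -, rfl⟩
    · exact hU₁ htop'
    · exact hU₂ htop'
    · apply hns
      refine ⟨μ, ?_⟩
      ext i j
      have : (Pi.single j 1 : ι → K) ∈ Module.End.eigenspace f μ := by rw [htop']; trivial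
      rw [Module.End.mem_eigenspace_iff, hf] at this
      have := congrFun this i
      rw [Matrix.mulVec_single_one] at this
      simp only [Matrix.col_apply, Pi.smul_apply, smul_eq_mul] at this
      rw [this, Matrix.smul_apply, Matrix.one_apply, Pi.single_apply]
      simp
  obtain ⟨v, -, hv⟩ := exists_mem_forall_notMem (⊤ : Submodule K (ι → K)) id s hprop hcard
  have hv1 : v ∉ U₁ := hv U₁ (by simp [s])
  have hv2 : v ∉ U₂ := hv U₂ (by simp [s])
  have hv0 : v ≠ 0 := by
    rintro rfl
    exact hv1 U₁.zero_mem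
  refine ⟨v, hv1, hv2, ?_⟩
  intro μ hμ
  have hμT := hT μ v hv0 hμ
  have hmem : Module.End.eigenspace f μ ∈ s := by
    simp only [s, Finset.mem_insert, Finset.mem_image]
    exact Or.inr (Or.inr ⟨μ, hμT, rfl⟩)
  apply hv _ hmem
  show v ∈ Module.End.eigenspace f μ
  rw [Module.End.mem_eigenspace_iff, hf]
  exact hμ

end Cfsg.Agent.Lib.Helper53.RegUnip
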