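import Cfsg.Agent.Lib.Helper53.RegUnip.Two

/-!
# Lines of shears: the subsingleton bad sets
-/

set_option autoImplicit false
set_option linter.unusedSectionVars false

namespace Cfsg.Agent.Lib.Helper53.RegUnip

open Matrix Cardinal

variable {K : Type*} [Field K]

section affine

theorem subsingleton_affine (a b : K) (ha : a ≠ 0) : {t : K | a + t * b = 0}.Subsingleton := by
  intro t ht t' ht'
  rw [Set.mem_ofPred_eq] at ht ht'
  have hb : b ≠ 0 := by
    rintro rfl
    rw [mul_zero, add_zero] at ht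
    exact ha ht
  have : (t - t') * b = 0 := by linear_combination ht - ht'
  rcases mul_eq_zero.mp this with h | h
  · exact sub_eq_zero.mp h
  · exact absurd h hb

variable {ι : Type*}

theorem subsingleton_vec (x w : ι → K) (hx : x ≠ 0) : {t : K | x + t • w = 0}.Subsingleton := by
  obtain ⟨j, hj⟩ : ∃ j, x j ≠ 0 := by
    by_contra hcon
    push Not at hcon
    exact hx (funext hcon)
  apply (subsingleton_affine (x j) (w j) hj).anti
  intro t ht
  rw [Set.mem_ofPred_eq] at ht ⊢
  have := congrFun ht j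
  simpa using this

variable [Fintype ι] [DecidableEq ι]

theorem subsingleton_isScal (S M : Matrix ι ι K) (hM : R1 M) (hM0 : M ≠ 0)
    (hcard : 2 ≤ Fintype.card ι) : {t : K | IsScal (S - t • M)}.Subsingleton := by
  intro t ht t' ht'
  rw [Set.mem_ofPred_eq] at ht ht'
  obtain ⟨c, hc⟩ := ht
  obtain ⟨c', hc'⟩ := ht'
  have h1 : (t' - t) • M = (c - c') • (1 : Matrix ι ι K) := by
    rw [sub_smul, sub_smul, ← hc, ← hc']
    abel
  obtain ⟨i, k, hik⟩ : ∃ i k : ι, i ≠ k := by
    have : 1 < Fintype.card ι := by omega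
    exact Fintype.exists_pair_of_one_lt_card this
  have h2 : R1 ((t' - t) • M) := by
    intro i k j l
    simp only [Matrix.smul_apply, smul_eq_mul]
    have := hM i k j l
    linear_combination (t' - t) ^ 2 * this
  rw [h1] at h2
  have h3 := h2 i k i k
  simp only [Matrix.smul_apply, Matrix.one_apply, smul_eq_mul, if_true, if_neg hik,
    if_neg (Ne.symm hik), mul_zero, mul_one] at h3
  have h4 : c - c' = 0 := by
    rcases mul_eq_zero.mp h3 with h | h <;> exact h
  rw [h4, zero_smul] at h1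
  by_contra hne
  apply hM0
  have h5 : t' - t ≠ 0 := fun h => hne (sub_eq_zero.mp h).symm
  have := congrArg (fun N => (t' - t)⁻¹ • N) h1
  simpa [smul_smul, inv_mul_cancel₀ h5] using this

theorem subsingleton_R1 {κ : Type*} (A M : Matrix ι κ K) (hM : R1 M) (hA : ¬ R1 A) :
    {t : K | R1 (A - t • M)}.Subsingleton := by
  unfold R1 at hA
  push Not at hA
  obtain ⟨i, k, j, l, hne⟩ := hA
  intro t ht t' ht'
  rw [Set.mem_ofPred_eq] at ht ht'
  have h1 := ht i k j l
  have h2 := ht' i k j l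
  have h3 := hM i k j l
  simp only [Matrix.sub_apply, Matrix.smul_apply, smul_eq_mul] at h1 h2
  set c : K := A i j * M k l + M i j * A k l - A i l * M k j - M i l * A k j with hc
  have e1 : A i j * A k l - A i l * A k j = t * c := by
    rw [hc]; linear_combination h1 - t ^ 2 * h3
  have e2 : A i j * A k l - A i l * A k j = t' * c := by
    rw [hc]; linear_combination h2 - t' ^ 2 * h3
  have hc0 : c ≠ 0 := by
    intro h0
    rw [h0, mul_zero] at e1
    exact hne (sub_eq_zero.mp e1)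
  have : (t - t') * c = 0 := by linear_combination e2 - e1
  rcases mul_eq_zero.mp this with h | h
  · exact sub_eq_zero.mp h
  · exact absurd h hc0

end affine

section two

theorem subsingleton_R1_two (S : Matrix (Fin 2) (Fin 2) K) (y : Fin 2 → K) (hS : S.det = 1)
    (hne : perp y ᵥ* (S - 1) ≠ 0) :
    {t : K | R1 (S - 1 - t • vecMulVec y (perp y ᵥ* S))}.Subsingleton := by
  intro t ht t' ht'
  rw [Set.mem_ofPred_eq] at ht ht'
  by_contra htt
  apply hne
  rw [Matrix.det_fin_two] at hS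
  have h1 := ht 0 1 0 1
  have h2 := ht' 0 1 0 1
  have hφ0 : (perp y ᵥ* S) 0 = - y 1 * S 0 0 + y 0 * S 1 0 := by
    simp [Matrix.vecMul, dotProduct, Fin.sum_univ_two, perp]
  have hφ1 : (perp y ᵥ* S) 1 = - y 1 * S 0 1 + y 0 * S 1 1 := by
    simp [Matrix.vecMul, dotProduct, Fin.sum_univ_two, perp]
  have h01 : (0 : Fin 2) ≠ 1 := by decide
  simp only [Matrix.sub_apply, Matrix.smul_apply, vecMulVec_apply, Matrix.one_apply_eq,
    Matrix.one_apply_ne h01, Matrix.one_apply_ne h01.symm, smul_eq_mul, hφ0, hφ1] at h1 h2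
  set Q : K := y 0 * (- y 1 * S 0 0 + y 0 * S 1 0) + y 1 * (- y 1 * S 0 1 + y 0 * S 1 1) with hQ
  have hq' : (t - t') * Q = 0 := by
    rw [hQ]; linear_combination h1 - h2
  have hq : Q = 0 := by
    rcases mul_eq_zero.mp hq' with h | h
    · exact absurd (sub_eq_zero.mp h) htt
    · exact h
  have htr : S 0 0 + S 1 1 = 2 := by
    rw [hQ] at hq
    linear_combination hS - h1 + t * hq
  have hu : (perp y ᵥ* (S - 1)) 0 = - y 1 * (S 0 0 - 1) + y 0 * S 1 0 := by
    simp [Matrix.vecMul, dotProduct, Fin.sum_univ_two, perp]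
  have hv : (perp y ᵥ* (S - 1)) 1 = - y 1 * S 0 1 + y 0 * (S 1 1 - 1) := by
    simp [Matrix.vecMul, dotProduct, Fin.sum_univ_two, perp]
  rw [hQ] at hq
  ext i
  fin_cases i
  · simp only [Fin.zero_eta, Pi.zero_apply]
    rw [hu]
    have : (- y 1 * (S 0 0 - 1) + y 0 * S 1 0) ^ 2 = 0 := by
      linear_combination S 1 0 * hq - S 1 0 * y 0 * y 1 * htr + y 1 ^ 2 * (S 0 0 * htr - hS)
    exact pow_eq_zero_iff (two_ne_zero) |>.mp this
  · simp only [Fin.mk_one, Pi.zero_apply]
    rw [hv]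
    have : (- y 1 * S 0 1 + y 0 * (S 1 1 - 1)) ^ 2 = 0 := by
      linear_combination - S 0 1 * hq - S 0 1 * y 0 * y 1 * htr + y 0 ^ 2 * (S 1 1 * htr - hS)
    exact pow_eq_zero_iff (two_ne_zero) |>.mp this

end two

section shear

variable {d : ℕ}

/-- the block form -/
def blk (x y : Fin d → K) (S : Matrix (Fin d) (Fin d) K) :
    Matrix (Unit ⊕ Fin d) (Unit ⊕ Fin d) K :=
  fromBlocks 1 (replicateRow Unit x) (replicateCol Unit y) (S + vecMulVec y x)

/-- the shear matrices -/
def shear (ρ : Fin d → K) : Matrix (Unit ⊕ Fin d) (Unit ⊕ Fin d) K :=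
  fromBlocks 1 (replicateRow Unit ρ) 0 1

theorem shear_mul_shear_neg (ρ : Fin d → K) : shear ρ * shear (-ρ) = 1 := by
  unfold shear
  rw [fromBlocks_multiply, ← fromBlocks_one]
  congr 1
  · simp
  · ext i j; simp
  · simp
  · simp

theorem shear_neg_mul_shear (ρ : Fin d → K) : shear (-ρ) * shear ρ = 1 := by
  have := shear_mul_shear_neg (-ρ)
  rwa [neg_neg] at this

theorem shear_conj (x y ρ : Fin d → K) (S : Matrix (Fin d) (Fin d) K) (hρ : ρ ⬝ᵥ y = 0) :
    shear ρ * blk x y S * shear (-ρ) =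
      blk (x + ρ ᵥ* (S - 1)) y (S - vecMulVec y (ρ ᵥ* S)) := by
  have h0 : replicateRow Unit ρ * replicateCol Unit y = (0 : Matrix Unit Unit K) := by
    ext i j
    rw [replicateRow_mul_replicateCol_apply, hρ]; rfl
  have hD : ρ ᵥ* (S + vecMulVec y x) = ρ ᵥ* S := by
    rw [Matrix.vecMul_add, vecMul_vecMulVec, hρ, zero_smul, add_zero]
  unfold shear blk
  rw [fromBlocks_multiply, fromBlocks_multiply]
  congr 1
  · rw [h0]; simp
  · rw [h0, ← replicateRow_vecMul, hD, Matrix.vecMul_sub, Matrix.vecMul_one]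
    ext i j
    simp
    ring
  · simp
  · rw [Matrix.zero_mul, Matrix.one_mul, zero_add, Matrix.zero_mul, Matrix.one_mul, zero_add,
      Matrix.mul_one, ← vecMulVec_eq Unit, Matrix.vecMul_sub, Matrix.vecMul_one]
    ext i j
    simp [vecMulVec_apply]
    ring

theorem shear_mulVec_inl (ρ : Fin d → K) (Y : Unit ⊕ Fin d → K) :
    (shear ρ *ᵥ Y) (Sum.inl ()) = Y (Sum.inl ()) + ρ ⬝ᵥ (Y ∘ Sum.inr) := by
  unfold shear
  rw [fromBlocks_mulVec]
  simp [Matrix.mulVec, dotProduct]

theorem vecMul_shear_inl (ρ : Fin d → K) (X : Unit ⊕ Fin d → K) :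
    (X ᵥ* shear ρ) (Sum.inl ()) = X (Sum.inl ()) := by
  unfold shear
  rw [vecMul_fromBlocks]
  simp

theorem det_blk (x y : Fin d → K) (S : Matrix (Fin d) (Fin d) K) : (blk x y S).det = S.det := by
  unfold blk
  rw [Matrix.det_fromBlocks_one₁₁, vecMulVec_eq Unit, add_sub_cancel_right]

theorem det_sub_vecMulVec (y ρ : Fin d → K) (S : Matrix (Fin d) (Fin d) K) (hρ : ρ ⬝ᵥ y = 0) :
    (S - vecMulVec y (ρ ᵥ* S)).det = S.det := by
  have : S - vecMulVec y (ρ ᵥ* S) = (1 + vecMulVec (-y) ρ) * S := by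
    rw [Matrix.add_mul, Matrix.one_mul, vecMulVec_mul, neg_vecMulVec]
    abel
  rw [this, Matrix.det_mul, vecMulVec_eq Unit, det_one_add_replicateCol_mul_replicateRow,
    dotProduct_neg, hρ, neg_zero, add_zero, one_mul]

end shear

end Cfsg.Agent.Lib.Helper53.RegUnip
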