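import Cfsg.Agent.Lib.Helper53.RegUnip.Step

/-!
# The main induction: `T*`
-/

set_option autoImplicit false
set_option linter.unusedSectionVars false

namespace Cfsg.Agent.Lib.Helper53.RegUnip

open Matrix Cardinal

variable {K : Type*} [Field K]

section reindex

variable {ι κ : Type*} [Fintype ι] [DecidableEq ι] [Fintype κ] [DecidableEq κ]

theorem R1_reindex (e : ι ≃ κ) (M : Matrix ι ι K) : R1 (Matrix.reindex e e M) ↔ R1 M := by
  constructor
  · intro h i k j l
    have := h (e i) (e k) (e j) (e l)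
    simpa using this
  · intro h i k j l
    exact h (e.symm i) (e.symm k) (e.symm j) (e.symm l)

theorem isScal_reindex (e : ι ≃ κ) (M : Matrix ι ι K) :
    IsScal (Matrix.reindex e e M) ↔ IsScal M := by
  constructor
  · rintro ⟨c, hc⟩
    refine ⟨c, ?_⟩
    ext i j
    have := congrFun (congrFun hc (e i)) (e j)
    simpa [Matrix.one_apply] using this
  · rintro ⟨c, hc⟩
    refine ⟨c, ?_⟩
    rw [hc]
    ext i j
    simp [Matrix.one_apply]

theorem GP_reindex (e : ι ≃ κ) (M : Matrix ι ι K) : GP (Matrix.reindex e e M) ↔ GP M := by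
  unfold GP
  have : Matrix.reindex e e M - 1 = Matrix.reindex e e (M - 1) := by
    ext i j
    simp [Matrix.one_apply]
  rw [this, R1_reindex, isScal_reindex]

end reindex

section step

variable {d : ℕ}

theorem R1_fromBlocks_zero (M : Matrix (Fin d) (Fin d) K) (h : R1 M) :
    R1 (fromBlocks (0 : Matrix Unit Unit K) 0 0 M) := by
  intro i k j l
  rcases i with ⟨⟩ | i <;> rcases k with ⟨⟩ | k <;> rcases j with ⟨⟩ | j <;>
    rcases l with ⟨⟩ | l <;> first | exact h i k j l | simp

/-- the induction step on `Unit ⊕ Fin d` -/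
theorem stepGood (hK : 4 ≤ #K) (hd : 2 ≤ d)
    (IH : ∀ S : Matrix (Fin d) (Fin d) K, S.det = 1 → GP S → ∀ Y X : Fin d → K, Y ≠ 0 → X ≠ 0 →
      Good S Y X)
    (g : Matrix (Unit ⊕ Fin d) (Unit ⊕ Fin d) K) (hdet : g.det = 1) (hg : GP g)
    (Y X : Unit ⊕ Fin d → K) (hY : Y ≠ 0) (hX : X ≠ 0) : Good g Y X := by
  obtain ⟨e, π, hπe, hπhe, hXe, hπY, hhe, hπh, hA⟩ :=
    stage1 hK g hg (by rw [hdet]; exact one_ne_zero) Y X hY hX
  obtain ⟨P, Q, x, y, S, hPQ, hQP, hblock, hQv, hζP, hy, hx, hAm⟩ := convert g e π hπe hπhe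
  replace hy := hy hhe
  replace hx := hx hπh
  have hblock' : Q * g * P = blk x y S := hblock
  apply Good.of_conj P Q hPQ hQP
  rw [hblock']
  set Yt := Q *ᵥ Y with hYt
  set Xt := X ᵥ* P with hXt
  have hYt0 : Yt (Sum.inl ()) ≠ 0 := by rw [hYt, hQv]; exact hπY
  have hXt0 : Xt (Sum.inl ()) ≠ 0 := by rw [hXt, hζP]; exact hXe
  have hdetQP : Q.det * P.det = 1 := by rw [← Matrix.det_mul, hQP, det_one]
  have hS : S.det = 1 := by
    rw [← det_blk x y S, ← hblock', Matrix.det_mul, Matrix.det_mul, hdet, mul_one, hdetQP]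
  -- `¬ R1 (S - 1)` from `¬ R1 (Amat g e π)`
  have hRS : ¬ R1 (Amat g e π) → ¬ R1 (S - 1) := by
    intro hnot hR
    apply hnot
    have h1 : R1 (Q * Amat g e π * P) := by
      rw [hAm]; exact R1_fromBlocks_zero _ hR
    have h2 := h1.mul_mul P Q
    have h3 : P * (Q * Amat g e π * P) * Q = Amat g e π := by
      calc P * (Q * Amat g e π * P) * Q = (P * Q) * Amat g e π * (P * Q) := by
            simp only [Matrix.mul_assoc]
        _ = Amat g e π := by rw [hPQ, Matrix.one_mul, Matrix.mul_one]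
    rwa [h3] at h2
  -- the line step
  obtain ⟨ρ, hρy, hxρ, hGP, hYρ⟩ : ∃ ρ : Fin d → K, ρ ⬝ᵥ y = 0 ∧ x + ρ ᵥ* (S - 1) ≠ 0 ∧
      GP (S - vecMulVec y (ρ ᵥ* S)) ∧ Yt (Sum.inl ()) + ρ ⬝ᵥ (Yt ∘ Sum.inr) ≠ 0 := by
    rcases Nat.lt_or_ge 2 d with hd3 | hd2
    · apply lineStep_three hK hd3 x y S hS hx hy _ _ hYt0
      apply hRS
      apply hA
      right
      rw [card_unit_sum_fin]
      omega
    · obtain rfl : d = 2 := le_antisymm hd2 hd
      apply lineStep_two hK x y S hS hx hy _ _ hYt0
      by_cases hdet1 : (g - 1).det = 0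
      · left
        exact hRS (hA (Or.inl hdet1))
      · right
        have : blk x y S - 1 = Q * (g - 1) * P := by
          rw [← hblock', Matrix.mul_sub, Matrix.sub_mul, Matrix.mul_one, hQP]
        rw [this, Matrix.det_mul, Matrix.det_mul, mul_right_comm, hdetQP, one_mul]
        exact hdet1
  apply Good.of_conj (shear (-ρ)) (shear ρ) (shear_neg_mul_shear ρ) (shear_mul_shear_neg ρ)
  rw [shear_conj x y ρ S hρy]
  refine Good.block (by omega) (IH _ ?_ hGP y _ hy hxρ) _ _ ?_ ?_
  · rw [det_sub_vecMulVec y ρ S hρy, hS]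
  · rw [shear_mulVec_inl]; exact hYρ
  · rw [vecMul_shear_inl]; exact hXt0

end step

/-- **Theorem T\***: a non-scalar matrix `g` of determinant one such that `g - 1` has rank at
least two is a product of two regular unipotent matrices, with prescribed cyclic vector and
covector. -/
theorem tstar (hK : 4 ≤ #K) : ∀ d, 2 ≤ d → ∀ g : Matrix (Fin d) (Fin d) K, g.det = 1 → GP g →
    ∀ Y X : Fin d → K, Y ≠ 0 → X ≠ 0 → Good g Y X := by
  intro d hd
  induction d, hd using Nat.le_induction with
  | base => exact good_two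
  | succ d hd ih =>
    intro g hdet hg Y X hY hX
    have hcard : Fintype.card (Fin (d + 1)) = Fintype.card (Unit ⊕ Fin d) := by
      rw [card_unit_sum_fin, Fintype.card_fin]
    let e : Fin (d + 1) ≃ Unit ⊕ Fin d := Fintype.equivOfCardEq hcard
    apply Good.of_reindex e
    apply stepGood hK hd ih
    · rw [Matrix.det_reindex_self, hdet]
    · rw [GP_reindex]; exact hg
    · intro h
      apply hY
      ext i
      have := congrFun h (e i)
      simpa using this
    · intro h
      apply hX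
      ext i
      have := congrFun h (e i)
      simpa using this

end Cfsg.Agent.Lib.Helper53.RegUnip
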