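import Cfsg.Agent.Lib.Helper53.RegUnip.Basic
import Cfsg.Agent.Lib.Helper43.RegularUnipotentMatrix

/-!
# Regular unipotent matrices via powers
-/

set_option autoImplicit false
set_option linter.unusedSectionVars false

namespace Cfsg.Agent.Lib.Helper53.RegUnip

open Matrix Module

variable {K : Type*} [Field K]

section abstract

variable {V : Type*} [AddCommGroup V] [Module K V] [FiniteDimensional K V]

theorem finrank_ker_eq_one_of_pow (f : Module.End K V) (n : ℕ) (hn : finrank K V = n)
    (hpos : 1 ≤ n) (h0 : f ^ n = 0) (h1 : f ^ (n - 1) ≠ 0) :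
    finrank K (LinearMap.ker f) = 1 := by
  have hmono : ∀ i, LinearMap.ker (f ^ i) ≤ LinearMap.ker (f ^ (i + 1)) := by
    intro i
    rw [pow_succ']
    exact LinearMap.ker_le_ker_comp _ _
  have hmono' : ∀ i j, i ≤ j → LinearMap.ker (f ^ i) ≤ LinearMap.ker (f ^ j) := by
    intro i j hij
    exact monotone_nat_of_le_succ hmono hij
  have hstrict : ∀ i, i < n → LinearMap.ker (f ^ i) < LinearMap.ker (f ^ (i + 1)) := by
    intro i hi
    refine lt_of_le_of_ne (hmono i) ?_
    intro heq
    have hc := Module.End.ker_pow_constant heq (n - i)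
    rw [Nat.add_sub_cancel' hi.le, h0, LinearMap.ker_zero] at hc
    have h2 := hmono' i (n - 1) (by omega)
    rw [hc] at h2
    exact h1 (LinearMap.ker_eq_top.mp (top_le_iff.mp h2))
  have hlow : ∀ i, i + 1 ≤ n →
      finrank K (LinearMap.ker f) + i ≤ finrank K (LinearMap.ker (f ^ (i + 1))) := by
    intro i
    induction i with
    | zero => intro _; rw [zero_add, pow_one, add_zero]
    | succ i ih =>
      intro hi
      have h3 := Submodule.finrank_lt_finrank_of_lt (hstrict (i + 1) (by omega))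
      have h4 := ih (by omega)
      omega
  have h2 := hlow (n - 1) (by omega)
  rw [Nat.sub_add_cancel hpos, h0, LinearMap.ker_zero, finrank_top, hn] at h2
  have h3 : 0 < finrank K (LinearMap.ker f) := by
    have h4 := Submodule.finrank_lt_finrank_of_lt (hstrict 0 (by omega))
    rw [pow_zero, zero_add, pow_one, Module.End.one_eq_id, LinearMap.ker_id, finrank_bot] at h4
    exact h4
  omega

end abstract

section matrix

variable {n : ℕ}

/-- regular unipotent in terms of powers -/
def RegU (A : Matrix (Fin n) (Fin n) K) : Prop := (A - 1) ^ n = 0 ∧ (A - 1) ^ (n - 1) ≠ 0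

theorem rank_eq_of_pow (hn : 1 ≤ n) (A : Matrix (Fin n) (Fin n) K) (h0 : A ^ n = 0)
    (h1 : A ^ (n - 1) ≠ 0) : A.rank = n - 1 := by
  set f : Module.End K (Fin n → K) := Matrix.mulVecLin A with hf
  have hpow : ∀ k, f ^ k = Matrix.mulVecLin (A ^ k) := fun k => (Matrix.toLin'_pow A k).symm
  have hker := finrank_ker_eq_one_of_pow f n (Module.finrank_fin_fun K) hn
    (by rw [hpow, h0]; exact Matrix.mulVecLin_zero)
    (by
      rw [hpow]
      intro h
      apply h1
      have : Matrix.toLin' (A ^ (n - 1)) = Matrix.toLin' (0 : Matrix (Fin n) (Fin n) K) := by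
        rw [map_zero]; exact h
      exact Matrix.toLin'.injective this)
  have h2 := LinearMap.finrank_range_add_finrank_ker f
  rw [Module.finrank_fin_fun] at h2
  have h3 : A.rank = finrank K (LinearMap.range f) := rfl
  omega

theorem RegU.isRegUnip (hn : 1 ≤ n) {A : Matrix (Fin n) (Fin n) K} (h : RegU A) :
    Cfsg.Agent.Lib.Helper43.IsRegUnip A :=
  ⟨h.1, rank_eq_of_pow hn _ h.1 h.2⟩

/-- the inverse of a regular unipotent matrix is regular unipotent -/
theorem RegU.inv {A B : Matrix (Fin n) (Fin n) K} (h : RegU A) (hAB : A * B = 1)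
    (hBA : B * A = 1) : RegU B := by
  have e1 : B - 1 = -((A - 1) * B) := by
    rw [Matrix.sub_mul, hAB, Matrix.one_mul]; abel
  have hc : Commute (A - 1) B := by
    show (A - 1) * B = B * (A - 1)
    rw [Matrix.sub_mul, Matrix.mul_sub, hAB, hBA, Matrix.one_mul, Matrix.mul_one]
  have e2 : ∀ k, (B - 1) ^ k = (-1 : Matrix (Fin n) (Fin n) K) ^ k * ((A - 1) ^ k * B ^ k) := by
    intro k
    rw [e1, neg_pow, hc.mul_pow]
  have hBAk : ∀ k, B ^ k * A ^ k = 1 := by
    intro k
    have hc' : Commute B A := by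
      show B * A = A * B
      rw [hAB, hBA]
    rw [← hc'.mul_pow, hBA, one_pow]
  refine ⟨?_, ?_⟩
  · rw [e2, h.1, Matrix.zero_mul, Matrix.mul_zero]
  · intro h0
    apply h.2
    rw [e2] at h0
    have h1 : (A - 1) ^ (n - 1) * B ^ (n - 1) = 0 := by
      have := congrArg (fun X => (-1 : Matrix (Fin n) (Fin n) K) ^ (n - 1) * X) h0
      simp only [Matrix.mul_zero] at this
      rw [← Matrix.mul_assoc, ← pow_add, Even.neg_one_pow ⟨n - 1, rfl⟩, Matrix.one_mul] at this
      exact this
    calc (A - 1) ^ (n - 1) = (A - 1) ^ (n - 1) * (B ^ (n - 1) * A ^ (n - 1)) := by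
          rw [hBAk, Matrix.mul_one]
      _ = ((A - 1) ^ (n - 1) * B ^ (n - 1)) * A ^ (n - 1) := by rw [Matrix.mul_assoc]
      _ = 0 := by rw [h1, Matrix.zero_mul]

/-- conjugates of regular unipotent matrices -/
theorem RegU.conj {A : Matrix (Fin n) (Fin n) K} (h : RegU A) (P Q : Matrix (Fin n) (Fin n) K)
    (hPQ : P * Q = 1) (hQP : Q * P = 1) : RegU (P * A * Q) := by
  refine ⟨?_, ?_⟩
  · rw [conj_sub_one_pow P Q hQP hPQ, h.1, Matrix.mul_zero, Matrix.zero_mul]
  · rw [conj_sub_one_pow P Q hQP hPQ]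
    intro h0
    apply h.2
    calc (A - 1) ^ (n - 1) = (Q * P) * (A - 1) ^ (n - 1) * (Q * P) := by
          rw [hQP, Matrix.one_mul, Matrix.mul_one]
      _ = Q * (P * (A - 1) ^ (n - 1) * Q) * P := by simp only [Matrix.mul_assoc]
      _ = 0 := by rw [h0, Matrix.mul_zero, Matrix.zero_mul]

end matrix

end Cfsg.Agent.Lib.Helper53.RegUnip
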