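import Cfsg.Agent.Lib.Helper53.RegUnip.Eigen

/-!
# Stage 1 of the key lemma: the choice of the vector `e` and the covector `π`
-/

set_option autoImplicit false
set_option linter.unusedSectionVars false

namespace Cfsg.Agent.Lib.Helper53.RegUnip

open Matrix Cardinal Module

variable {K : Type*} [Field K] {ι : Type*} [Fintype ι] [DecidableEq ι]

/-- fewer covectors than the dimension have a common nonzero kernel vector -/
theorem exists_ne_zero_forall_dot_eq_zero {k : ℕ} (c : Fin k → ι → K)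
    (hk : k < Fintype.card ι) : ∃ v : ι → K, v ≠ 0 ∧ ∀ i, c i ⬝ᵥ v = 0 := by
  let f : (ι → K) →ₗ[K] (Fin k → K) := Matrix.mulVecLin (Matrix.of c)
  have h1 := LinearMap.finrank_range_add_finrank_ker f
  have h2 : finrank K (LinearMap.range f) ≤ k := by
    have := Submodule.finrank_le (LinearMap.range f)
    rwa [Module.finrank_fin_fun] at this
  rw [Module.finrank_fintype_fun_eq_card] at h1
  have h3 : 0 < finrank K (LinearMap.ker f) := by omega
  obtain ⟨⟨v, hv⟩, hv0⟩ := Module.finrank_pos_iff_exists_ne_zero.mp h3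
  refine ⟨v, fun h => hv0 (Subtype.ext h), ?_⟩
  intro i
  have := congrFun (LinearMap.mem_ker.mp hv) i
  exact this

/-- left kernel of a matrix -/
def leftKer (h : Matrix ι ι K) : Submodule K (ι → K) where
  carrier := {π | π ᵥ* h = 0}
  add_mem' := by
    intro a b ha hb
    simp only [Set.mem_ofPred_eq] at *
    rw [Matrix.add_vecMul, ha, hb, add_zero]
  zero_mem' := Matrix.zero_vecMul h
  smul_mem' := by
    intro c v hv
    simp only [Set.mem_ofPred_eq] at *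
    rw [Matrix.smul_vecMul, hv, smul_zero]

theorem mem_leftKer {h : Matrix ι ι K} {π : ι → K} : π ∈ leftKer h ↔ π ᵥ* h = 0 := Iff.rfl

/-- the matrix `S - 1` extended by zero, in the original coordinates -/
def Amat (g : Matrix ι ι K) (e π : ι → K) : Matrix ι ι K :=
  g - 1 - vecMulVec (g *ᵥ e) (π ᵥ* g) + vecMulVec e π

theorem Amat_mulVec (g : Matrix ι ι K) (e π v : ι → K) :
    Amat g e π *ᵥ v = (g - 1) *ᵥ v - ((π ᵥ* g) ⬝ᵥ v) • (g *ᵥ e) + (π ⬝ᵥ v) • e := by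
  unfold Amat
  rw [Matrix.add_mulVec, Matrix.sub_mulVec, vecMulVec_mulVec, vecMulVec_mulVec]
  simp only [op_smul_eq_smul]

/-- nondegeneracy at the base point, via a vector `f₀` with `(g-1) f₀ ∈ K g e`. -/
theorem not_R1_Amat (g : Matrix ι ι K) (e π f₀ : ι → K) (s : K) (hπe : π ⬝ᵥ e = 1)
    (hπhe : π ⬝ᵥ ((g - 1) *ᵥ e) = 0) (hf : (g - 1) *ᵥ f₀ = s • (g *ᵥ e))
    (hπf : π ⬝ᵥ f₀ ≠ 0)
    (hD1 : ∃ v, ∀ a b : K, (g - 1) *ᵥ v ≠ a • e + b • ((g - 1) *ᵥ e))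
    (hhe : (g - 1) *ᵥ e ≠ 0) : ¬ R1 (Amat g e π) := by
  intro hR
  obtain ⟨a, α, hA⟩ := hR.exists_vecMulVec
  have hge : g *ᵥ e = e + (g - 1) *ᵥ e := by
    rw [Matrix.sub_mulVec, Matrix.one_mulVec]; abel
  have hπge : π ⬝ᵥ (g *ᵥ e) = 1 := by
    rw [hge, dotProduct_add, hπe, hπhe, add_zero]
  have hgf : g *ᵥ f₀ = f₀ + s • (g *ᵥ e) := by
    rw [← hf, Matrix.sub_mulVec, Matrix.one_mulVec]; abel
  -- `A f₀ = - (π f₀) • h e`
  have h1 : Amat g e π *ᵥ f₀ = -(π ⬝ᵥ f₀) • ((g - 1) *ᵥ e) := by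
    rw [Amat_mulVec, hf, ← dotProduct_mulVec, hgf, dotProduct_add, dotProduct_smul, hπge, hge]
    ext i
    simp only [Pi.add_apply, Pi.sub_apply, Pi.smul_apply, smul_eq_mul]
    ring
  have h2 : Amat g e π *ᵥ f₀ = (α ⬝ᵥ f₀) • a := by
    rw [hA, vecMulVec_mulVec]
    simp only [op_smul_eq_smul]
  have h3 : (g - 1) *ᵥ e = (-(α ⬝ᵥ f₀) / (π ⬝ᵥ f₀)) • a := by
    have : -(π ⬝ᵥ f₀) • ((g - 1) *ᵥ e) = (α ⬝ᵥ f₀) • a := by rw [← h1, h2]
    ext i
    have hi := congrFun this i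
    simp only [Pi.smul_apply, smul_eq_mul] at hi ⊢
    field_simp
    linear_combination -hi
  set κ : K := -(α ⬝ᵥ f₀) / (π ⬝ᵥ f₀) with hκ
  have hκ0 : κ ≠ 0 := by
    intro h0
    rw [h0, zero_smul] at h3
    exact hhe h3
  have ha : a = κ⁻¹ • ((g - 1) *ᵥ e) := by
    rw [h3, smul_smul, inv_mul_cancel₀ hκ0, one_smul]
  obtain ⟨v, hv⟩ := hD1
  have h4 : Amat g e π *ᵥ v = (α ⬝ᵥ v) • a := by
    rw [hA, vecMulVec_mulVec]
    simp only [op_smul_eq_smul]
  rw [Amat_mulVec] at h4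
  apply hv ((π ᵥ* g) ⬝ᵥ v - π ⬝ᵥ v) ((α ⬝ᵥ v) * κ⁻¹ + (π ᵥ* g) ⬝ᵥ v)
  have h5 : (g - 1) *ᵥ v = (α ⬝ᵥ v) • a + ((π ᵥ* g) ⬝ᵥ v) • (g *ᵥ e) - (π ⬝ᵥ v) • e := by
    rw [← h4]; abel
  rw [h5, ha, hge]
  ext i
  simp only [Pi.add_apply, Pi.sub_apply, Pi.smul_apply, smul_eq_mul]
  ring

/-- nondegeneracy at the base point when `g - 1` is invertible and the size is at least four -/
theorem not_R1_Amat_of_det (g : Matrix ι ι K) (hdet : (g - 1).det ≠ 0)
    (hcard : 4 ≤ Fintype.card ι) (e π : ι → K) : ¬ R1 (Amat g e π) := by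
  intro hR
  obtain ⟨a, α, hA⟩ := hR.exists_vecMulVec
  obtain ⟨v, hv0, hv⟩ := exists_ne_zero_forall_dot_eq_zero (ι := ι) (K := K)
    (![π ᵥ* g, π, α] : Fin 3 → ι → K) (by omega)
  have h1 : (π ᵥ* g) ⬝ᵥ v = 0 := hv 0
  have h2 : π ⬝ᵥ v = 0 := hv 1
  have h3 : α ⬝ᵥ v = 0 := hv 2
  have h4 : Amat g e π *ᵥ v = 0 := by
    rw [hA, vecMulVec_mulVec, h3]
    simp
  rw [Amat_mulVec, h1, h2, zero_smul, zero_smul, sub_zero, add_zero] at h4
  exact hdet (Matrix.exists_mulVec_eq_zero_iff.mp ⟨v, hv0, h4⟩)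

theorem range_ne_top_of_det_eq_zero (h : Matrix ι ι K) (hd : h.det = 0) :
    LinearMap.range (Matrix.mulVecLin h) ≠ ⊤ := by
  intro htop
  have hsurj : Function.Surjective h.mulVec := by
    intro w
    have : w ∈ LinearMap.range (Matrix.mulVecLin h) := by rw [htop]; trivial
    obtain ⟨v, hv⟩ := this
    exact ⟨v, hv⟩
  have := Matrix.mulVec_surjective_iff_isUnit.mp hsurj
  rw [Matrix.isUnit_iff_isUnit_det] at this
  exact this.ne_zero hd

/-- Choice of `π` in the hyperplane `(h e)^⊥` of covectors avoiding finitely many subspaces. -/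
theorem exists_covector {k : ℕ} (hK : (k : Cardinal) ≤ #K) (w : ι → K)
    (U : Fin k → Submodule K (ι → K))
    (hU : ∀ i, ∃ π : ι → K, π ⬝ᵥ w = 0 ∧ π ∉ U i) :
    ∃ π : ι → K, π ⬝ᵥ w = 0 ∧ ∀ i, π ∉ U i := by
  obtain ⟨π, hπ, h⟩ := exists_mem_forall_notMem_fin (kerDot w) U (by
    intro i hle
    obtain ⟨π, hπw, hπU⟩ := hU i
    apply hπU
    apply hle
    rw [mem_kerDot, dotProduct_comm]
    exact hπw) hK
  refine ⟨π, ?_, h⟩
  rw [dotProduct_comm]
  exact mem_kerDot.mp hπ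

/-- Stage 1: the choice of `e` and `π`. -/
theorem stage1 (hK : 4 ≤ #K) (g : Matrix ι ι K) (hg : GP g) (hgdet : g.det ≠ 0)
    (Y X : ι → K) (hY : Y ≠ 0) (hX : X ≠ 0) :
    ∃ e π : ι → K, π ⬝ᵥ e = 1 ∧ π ⬝ᵥ ((g - 1) *ᵥ e) = 0 ∧ X ⬝ᵥ e ≠ 0 ∧ π ⬝ᵥ Y ≠ 0 ∧
      (g - 1) *ᵥ e ≠ 0 ∧ π ᵥ* (g - 1) ≠ 0 ∧
      ((g - 1).det = 0 ∨ 4 ≤ Fintype.card ι → ¬ R1 (Amat g e π)) := by
  obtain ⟨hR, hS⟩ := hg
  set h : Matrix ι ι K := g - 1 with hh
  have hg1 : g = 1 + h := by rw [hh]; abel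
  have hns : ¬ IsScal h := by
    rintro ⟨c, hc⟩
    apply hS
    refine ⟨c + 1, ?_⟩
    rw [hg1, hc, add_smul, one_smul, add_comm]
  -- normalisation of a covector
  have norm : ∀ (e π' : ι → K), π' ⬝ᵥ e ≠ 0 → π' ⬝ᵥ (h *ᵥ e) = 0 → π' ⬝ᵥ Y ≠ 0 →
      π' ᵥ* h ≠ 0 →
      ∃ π : ι → K, π ⬝ᵥ e = 1 ∧ π ⬝ᵥ (h *ᵥ e) = 0 ∧ π ⬝ᵥ Y ≠ 0 ∧ π ᵥ* h ≠ 0 ∧
        ∀ f : ι → K, π' ⬝ᵥ f ≠ 0 → π ⬝ᵥ f ≠ 0 := by
    intro e π' h1 h2 h4 h6
    refine ⟨(π' ⬝ᵥ e)⁻¹ • π', ?_, ?_, ?_, ?_, ?_⟩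
    · rw [smul_dotProduct, smul_eq_mul, inv_mul_cancel₀ h1]
    · rw [smul_dotProduct, h2, smul_zero]
    · rw [smul_dotProduct, smul_eq_mul]
      exact mul_ne_zero (inv_ne_zero h1) h4
    · rw [Matrix.smul_vecMul]
      exact smul_ne_zero (inv_ne_zero h1) h6
    · intro f hf
      rw [smul_dotProduct, smul_eq_mul]
      exact mul_ne_zero (inv_ne_zero h1) hf
  by_cases hdh : h.det = 0
  · -- Case B
    obtain ⟨f₀, hf₀, hhf₀⟩ := Matrix.exists_mulVec_eq_zero_iff.mpr hdh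
    obtain ⟨e, -, he⟩ := exists_mem_forall_notMem_fin (⊤ : Submodule K (ι → K))
      (![kerDot X, preLine h Y, LinearMap.range (Matrix.mulVecLin h), preLine h f₀] :
        Fin 4 → Submodule K (ι → K)) (by
        intro i hle
        have htop := top_le_iff.mp hle
        fin_cases i
        · exact kerDot_ne_top hX htop
        · exact preLine_ne_top hR Y htop
        · exact range_ne_top_of_det_eq_zero h hdh htop
        · exact preLine_ne_top hR f₀ htop) (by exact_mod_cast hK)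
    have heX : X ⬝ᵥ e ≠ 0 := fun h0 => he 0 (mem_kerDot.mpr h0)
    have heY : ∀ c : K, c • Y ≠ h *ᵥ e := fun c hc => he 1 (mem_preLine.mpr ⟨c, hc⟩)
    have heI : ∀ v, h *ᵥ v ≠ e := fun v hv => he 2 ⟨v, hv⟩
    have hef : ∀ c : K, c • f₀ ≠ h *ᵥ e := fun c hc => he 3 (mem_preLine.mpr ⟨c, hc⟩)
    have hhe : h *ᵥ e ≠ 0 := by
      intro h0
      apply heY 0
      rw [zero_smul, h0]
    have h_e : ∀ c : K, e ≠ c • (h *ᵥ e) := by
      intro c hc
      apply heI (c • e)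
      rw [Matrix.mulVec_smul, ← hc]
    have h_Y : ∀ c : K, Y ≠ c • (h *ᵥ e) := by
      intro c hc
      have hc0 : c ≠ 0 := by
        rintro rfl
        rw [zero_smul] at hc
        exact hY hc
      apply heY c⁻¹
      rw [hc, smul_smul, inv_mul_cancel₀ hc0, one_smul]
    have h_f : ∀ c : K, f₀ ≠ c • (h *ᵥ e) := by
      intro c hc
      have hc0 : c ≠ 0 := by
        rintro rfl
        rw [zero_smul] at hc
        exact hf₀ hc
      apply hef c⁻¹
      rw [hc, smul_smul, inv_mul_cancel₀ hc0, one_smul]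
    obtain ⟨v₀, hv₀⟩ := exists_mulVec_notMem_line hR (h *ᵥ e)
    obtain ⟨π', hπ'w, hπ'⟩ := exists_covector (k := 4) (by exact_mod_cast hK) (h *ᵥ e)
      (![kerDot e, kerDot Y, leftKer h, kerDot f₀] : Fin 4 → Submodule K (ι → K)) (by
        intro i
        fin_cases i
        · obtain ⟨π, h1, h2⟩ := exists_dot_eq_zero_ne_zero (h *ᵥ e) e h_e
          exact ⟨π, h1, fun hm => h2 (by rw [dotProduct_comm]; exact mem_kerDot.mp hm)⟩
        · obtain ⟨π, h1, h2⟩ := exists_dot_eq_zero_ne_zero (h *ᵥ e) Y h_Y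
          exact ⟨π, h1, fun hm => h2 (by rw [dotProduct_comm]; exact mem_kerDot.mp hm)⟩
        · obtain ⟨π, h1, h2⟩ := exists_dot_eq_zero_ne_zero (h *ᵥ e) (h *ᵥ v₀) hv₀
          refine ⟨π, h1, fun hm => h2 ?_⟩
          rw [dotProduct_mulVec, mem_leftKer.mp hm, zero_dotProduct]
        · obtain ⟨π, h1, h2⟩ := exists_dot_eq_zero_ne_zero (h *ᵥ e) f₀ h_f
          exact ⟨π, h1, fun hm => h2 (by rw [dotProduct_comm]; exact mem_kerDot.mp hm)⟩)
    have hπe : π' ⬝ᵥ e ≠ 0 := fun h0 => hπ' 0 (by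
      show π' ∈ kerDot e
      rw [mem_kerDot, dotProduct_comm]; exact h0)
    have hπY : π' ⬝ᵥ Y ≠ 0 := fun h0 => hπ' 1 (by
      show π' ∈ kerDot Y
      rw [mem_kerDot, dotProduct_comm]; exact h0)
    have hπh : π' ᵥ* h ≠ 0 := fun h0 => hπ' 2 (by
      show π' ∈ leftKer h
      exact h0)
    have hπf : π' ⬝ᵥ f₀ ≠ 0 := fun h0 => hπ' 3 (by
      show π' ∈ kerDot f₀
      rw [mem_kerDot, dotProduct_comm]; exact h0)
    -- the hypothesis (H_D1)
    have hD1 : ∃ v, ∀ a b : K, h *ᵥ v ≠ a • e + b • (h *ᵥ e) := by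
      by_contra hcon
      push Not at hcon
      apply hR
      -- then the image of `h` is inside the line `K (h e)`
      have : ∀ v, ∃ b : K, h *ᵥ v = b • (h *ᵥ e) := by
        intro v
        obtain ⟨a, b, hab⟩ := hcon v
        refine ⟨b, ?_⟩
        by_cases ha : a = 0
        · rw [hab, ha, zero_smul, zero_add]
        · exfalso
          apply heI (a⁻¹ • (v - b • e))
          rw [Matrix.mulVec_smul, Matrix.mulVec_sub, Matrix.mulVec_smul, hab, add_sub_cancel_right,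
            smul_smul, inv_mul_cancel₀ ha, one_smul]
      choose β hβ using fun j => this (Pi.single j 1)
      have hform : h = vecMulVec (h *ᵥ e) β := by
        ext i j
        have := congrFun (hβ j) i
        rw [Matrix.mulVec_single_one] at this
        simp only [Matrix.col_apply, Pi.smul_apply, smul_eq_mul] at this
        rw [vecMulVec_apply, mul_comm]
        exact this
      rw [hform]
      exact R1_vecMulVec _ _
    obtain ⟨π, n1, n2, n3, n4, n5⟩ := norm e π' hπe hπ'w hπY hπh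
    refine ⟨e, π, n1, n2, heX, n3, hhe, n4, ?_⟩
    intro _
    apply not_R1_Amat g e π f₀ 0 n1 n2 _ (n5 f₀ hπf) hD1 hhe
    rw [zero_smul]
    exact hhf₀
  · -- Case A
    have hdh1 : (1 + h).det ≠ 0 := by rw [← hg1]; exact hgdet
    obtain ⟨e, heX', heY', hee⟩ := exists_noneigen h hdh hdh1 hns (kerDot X) (preLine h Y)
      (kerDot_ne_top hX) (preLine_ne_top hR Y)
    have heX : X ⬝ᵥ e ≠ 0 := fun h0 => heX' (mem_kerDot.mpr h0)
    have heY : ∀ c : K, c • Y ≠ h *ᵥ e := fun c hc => heY' (mem_preLine.mpr ⟨c, hc⟩)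
    have he0 : e ≠ 0 := by
      rintro rfl
      exact heX' (Submodule.zero_mem _)
    have hhe : h *ᵥ e ≠ 0 := by
      intro h0
      apply heY 0
      rw [zero_smul, h0]
    have h_e : ∀ c : K, e ≠ c • (h *ᵥ e) := by
      intro c hc
      have hc0 : c ≠ 0 := by
        rintro rfl
        rw [zero_smul] at hc
        exact he0 hc
      apply hee c⁻¹
      conv_rhs => rw [hc]
      rw [smul_smul, inv_mul_cancel₀ hc0, one_smul]
    have h_Y : ∀ c : K, Y ≠ c • (h *ᵥ e) := by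
      intro c hc
      have hc0 : c ≠ 0 := by
        rintro rfl
        rw [zero_smul] at hc
        exact hY hc
      apply heY c⁻¹
      rw [hc, smul_smul, inv_mul_cancel₀ hc0, one_smul]
    obtain ⟨π', hπ'w, hπ'⟩ := exists_covector (k := 2)
      (le_trans (by norm_num) hK) (h *ᵥ e)
      (![kerDot e, kerDot Y] : Fin 2 → Submodule K (ι → K)) (by
        intro i
        fin_cases i
        · obtain ⟨π, h1, h2⟩ := exists_dot_eq_zero_ne_zero (h *ᵥ e) e h_e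
          exact ⟨π, h1, fun hm => h2 (by rw [dotProduct_comm]; exact mem_kerDot.mp hm)⟩
        · obtain ⟨π, h1, h2⟩ := exists_dot_eq_zero_ne_zero (h *ᵥ e) Y h_Y
          exact ⟨π, h1, fun hm => h2 (by rw [dotProduct_comm]; exact mem_kerDot.mp hm)⟩)
    have hπe : π' ⬝ᵥ e ≠ 0 := fun h0 => hπ' 0 (by
      show π' ∈ kerDot e
      rw [mem_kerDot, dotProduct_comm]; exact h0)
    have hπY : π' ⬝ᵥ Y ≠ 0 := fun h0 => hπ' 1 (by
      show π' ∈ kerDot Y
      rw [mem_kerDot, dotProduct_comm]; exact h0)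
    have hπ0 : π' ≠ 0 := by
      rintro rfl
      exact hπe (zero_dotProduct _)
    have hπh : π' ᵥ* h ≠ 0 := by
      intro h0
      apply hπ0
      have hu : IsUnit h := (Matrix.isUnit_iff_isUnit_det h).mpr (Ne.isUnit hdh)
      exact Matrix.vecMul_injective_iff_isUnit.mpr hu (by
        show π' ᵥ* h = 0 ᵥ* h
        rw [h0, Matrix.zero_vecMul])
    obtain ⟨π, n1, n2, n3, n4, n5⟩ := norm e π' hπe hπ'w hπY hπh
    refine ⟨e, π, n1, n2, heX, n3, hhe, n4, ?_⟩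
    intro hor
    rcases hor with h0 | h4
    · exact absurd h0 hdh
    · exact not_R1_Amat_of_det g hdh h4 e π

end Cfsg.Agent.Lib.Helper53.RegUnip
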