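import Cfsg.Agent.Lib.Helper53.RegUnip.Line
import Cfsg.Agent.Lib.Helper53.RegUnip.Convert

/-!
# The line step: choosing a good shear
-/

set_option autoImplicit false
set_option linter.unusedSectionVars false

namespace Cfsg.Agent.Lib.Helper53.RegUnip

open Matrix Cardinal

variable {K : Type*} [Field K]

theorem five_le_card (hK : 4 ≤ #K) (h2 : (2 : K) ≠ 0) : 5 ≤ #K := by
  rcases finite_or_infinite K with hfin | hinf
  · have := Fintype.ofFinite K
    rw [Cardinal.mk_fintype] at hK ⊢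
    have h4 : 4 ≤ Fintype.card K := by exact_mod_cast hK
    have hodd : Fintype.card K % 2 = 1 := FiniteField.odd_card_of_char_ne_two (by
      intro h
      apply h2
      have := ringChar.Nat.cast_ringChar (R := K)
      rw [h] at this
      exact_mod_cast this)
    have : 5 ≤ Fintype.card K := by omega
    exact_mod_cast this
  · exact le_trans (le_of_lt (Cardinal.natCast_lt_aleph0 (n := 5))) (Cardinal.aleph0_le_mk K)

section core

variable {d : ℕ}

theorem vecMul_ne_zero_of_det (S : Matrix (Fin d) (Fin d) K) (hS : S.det = 1) (ψ : Fin d → K)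
    (hψ : ψ ≠ 0) : ψ ᵥ* S ≠ 0 := by
  intro h
  have := Matrix.exists_vecMul_eq_zero_iff.mp ⟨ψ, hψ, h⟩
  rw [hS] at this
  exact one_ne_zero this

theorem lineCore (x y ψ : Fin d → K) (S : Matrix (Fin d) (Fin d) K)
    (hψy : ψ ⬝ᵥ y = 0) (a : K) (Y' : Fin d → K) (t : K)
    (h1 : t ∉ {t : K | a + t * (ψ ⬝ᵥ Y') = 0})
    (h2 : t ∉ {t : K | x + t • (ψ ᵥ* (S - 1)) = 0})
    (h3 : t ∉ {t : K | IsScal (S - t • vecMulVec y (ψ ᵥ* S))})
    (h4 : t ∉ {t : K | R1 (S - 1 - t • vecMulVec y (ψ ᵥ* S))}) :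
    ∃ ρ : Fin d → K, ρ ⬝ᵥ y = 0 ∧ x + ρ ᵥ* (S - 1) ≠ 0 ∧ GP (S - vecMulVec y (ρ ᵥ* S)) ∧
      a + ρ ⬝ᵥ Y' ≠ 0 := by
  rw [Set.mem_ofPred_eq] at h1 h2 h3 h4
  refine ⟨t • ψ, ?_, ?_, ⟨?_, ?_⟩, ?_⟩
  · rw [smul_dotProduct, hψy, smul_zero]
  · rw [Matrix.smul_vecMul]; exact h2
  · rw [Matrix.smul_vecMul, vecMulVec_smul, sub_right_comm]; exact h4
  · rw [Matrix.smul_vecMul, vecMulVec_smul]; exact h3
  · rw [smul_dotProduct, smul_eq_mul]; exact h1

theorem subsingleton_isScal_line (hd : 2 ≤ d) (y ψ : Fin d → K) (S : Matrix (Fin d) (Fin d) K)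
    (hS : S.det = 1) (hy : y ≠ 0) (hψ : ψ ≠ 0) :
    {t : K | IsScal (S - t • vecMulVec y (ψ ᵥ* S))}.Subsingleton := by
  apply subsingleton_isScal S _ (R1_vecMulVec _ _)
  · intro h
    rcases vecMulVec_eq_zero.mp h with h | h
    · exact hy h
    · exact vecMul_ne_zero_of_det S hS ψ hψ h
  · rw [Fintype.card_fin]; exact hd

/-- the line step in dimension at least three -/
theorem lineStep_three (hK : 4 ≤ #K) (hd : 3 ≤ d) (x y : Fin d → K)
    (S : Matrix (Fin d) (Fin d) K) (hS : S.det = 1) (hx : x ≠ 0) (hy : y ≠ 0) (a : K)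
    (Y' : Fin d → K) (ha : a ≠ 0) (hR : ¬ R1 (S - 1)) :
    ∃ ρ : Fin d → K, ρ ⬝ᵥ y = 0 ∧ x + ρ ᵥ* (S - 1) ≠ 0 ∧ GP (S - vecMulVec y (ρ ᵥ* S)) ∧
      a + ρ ⬝ᵥ Y' ≠ 0 := by
  obtain ⟨ψ, hψ, hψc⟩ := exists_ne_zero_forall_dot_eq_zero (K := K) ![y, Y']
    (by rw [Fintype.card_fin]; omega)
  have hψy : ψ ⬝ᵥ y = 0 := by
    have := hψc 0
    rw [dotProduct_comm]
    simpa using this
  have hψY : ψ ⬝ᵥ Y' = 0 := by
    have := hψc 1
    rw [dotProduct_comm]
    simpa using this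
  obtain ⟨t, ht⟩ := exists_forall_notMem_of_subsingleton
    ![{t : K | x + t • (ψ ᵥ* (S - 1)) = 0},
      {t : K | IsScal (S - t • vecMulVec y (ψ ᵥ* S))},
      {t : K | R1 (S - 1 - t • vecMulVec y (ψ ᵥ* S))}]
    (by
      intro i
      fin_cases i
      · exact subsingleton_vec x _ hx
      · exact subsingleton_isScal_line (by omega) y ψ S hS hy hψ
      · exact subsingleton_R1 _ _ (R1_vecMulVec _ _) hR)
    (lt_of_lt_of_le (by exact_mod_cast (by norm_num : (3 : ℕ) < 4)) hK)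
  refine lineCore x y ψ S hψy a Y' t ?_ (ht 0) (ht 1) (ht 2)
  rw [Set.mem_ofPred_eq, hψY, mul_zero, add_zero]
  exact ha

theorem blk_sub_one (x y : Fin d → K) (S : Matrix (Fin d) (Fin d) K) :
    blk x y S - 1 = fromBlocks 0 (replicateRow Unit x) (replicateCol Unit y)
      (S + vecMulVec y x - 1) := by
  unfold blk
  rw [← fromBlocks_one, sub_eq_add_neg, fromBlocks_neg, fromBlocks_add]
  simp [sub_eq_add_neg]

theorem det_blk_sub_one_eq_zero (x y ψ : Fin d → K) (S : Matrix (Fin d) (Fin d) K)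
    (hψ : ψ ≠ 0) (hψy : ψ ⬝ᵥ y = 0) (h : ψ ᵥ* (S - 1) = 0) : (blk x y S - 1).det = 0 := by
  apply Matrix.exists_vecMul_eq_zero_iff.mp
  refine ⟨Sum.elim 0 ψ, ?_, ?_⟩
  · intro h0
    apply hψ
    have := congrArg (fun v : Unit ⊕ Fin d → K => v ∘ Sum.inr) h0
    simpa using this
  · rw [blk_sub_one, vecMul_fromBlocks]
    have e1 : ψ ᵥ* (S + vecMulVec y x - 1) = 0 := by
      rw [add_sub_right_comm, Matrix.vecMul_add, h, vecMul_vecMulVec, hψy, zero_smul, add_zero]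
    have e2 : ψ ᵥ* replicateCol Unit y = 0 := by
      ext i
      simp [Matrix.vecMul, hψy]
    simp only [Sum.elim_comp_inl, Sum.elim_comp_inr, Matrix.zero_vecMul, zero_add, e1, e2]
    ext i
    rcases i with ⟨⟩ | i <;> simp

end core

section two

theorem not_isScal_of_char_two (h2 : (2 : K) = 0) (T : Matrix (Fin 2) (Fin 2) K)
    (hT : T.det = 1) (hR : ¬ R1 (T - 1)) : ¬ IsScal T := by
  rintro ⟨c, hc⟩
  apply hR
  have hdet : c ^ 2 = 1 := by
    rw [hc, Matrix.det_smul, Fintype.card_fin, det_one, mul_one] at hT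
    exact hT
  have hc1 : c = 1 := by
    have : (c - 1) ^ 2 = 0 := by linear_combination hdet - c * h2 + h2
    exact sub_eq_zero.mp (pow_eq_zero_iff two_ne_zero |>.mp this)
  rw [hc, hc1, one_smul, sub_self]
  exact R1_zero

theorem perp_ne_zero (y : Fin 2 → K) (hy : y ≠ 0) : perp y ≠ 0 := by
  intro h
  apply hy
  have h0 := congrFun h 0
  have h1 := congrFun h 1
  simp [perp] at h0 h1
  ext i
  fin_cases i
  · exact h1
  · exact h0

/-- the line step in dimension two -/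
theorem lineStep_two (hK : 4 ≤ #K) (x y : Fin 2 → K)
    (S : Matrix (Fin 2) (Fin 2) K) (hS : S.det = 1) (hx : x ≠ 0) (hy : y ≠ 0) (a : K)
    (Y' : Fin 2 → K) (ha : a ≠ 0) (hcase : ¬ R1 (S - 1) ∨ (blk x y S - 1).det ≠ 0) :
    ∃ ρ : Fin 2 → K, ρ ⬝ᵥ y = 0 ∧ x + ρ ᵥ* (S - 1) ≠ 0 ∧ GP (S - vecMulVec y (ρ ᵥ* S)) ∧
      a + ρ ⬝ᵥ Y' ≠ 0 := by
  set ψ : Fin 2 → K := perp y with hψdef
  have hψy : ψ ⬝ᵥ y = 0 := perp_dot_self y
  have hψ : ψ ≠ 0 := perp_ne_zero y hy
  have hb : {t : K | R1 (S - 1 - t • vecMulVec y (ψ ᵥ* S))}.Subsingleton := by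
    rcases hcase with hR | hdet
    · exact subsingleton_R1 _ _ (R1_vecMulVec _ _) hR
    · exact subsingleton_R1_two S y hS
        (fun h => hdet (det_blk_sub_one_eq_zero x y ψ S hψ hψy h))
  by_cases h2 : (2 : K) = 0
  · obtain ⟨t, ht⟩ := exists_forall_notMem_of_subsingleton
      ![{t : K | a + t * (ψ ⬝ᵥ Y') = 0},
        {t : K | x + t • (ψ ᵥ* (S - 1)) = 0},
        {t : K | R1 (S - 1 - t • vecMulVec y (ψ ᵥ* S))}]
      (by
        intro i
        fin_cases i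
        · exact subsingleton_affine a _ ha
        · exact subsingleton_vec x _ hx
        · exact hb)
      (lt_of_lt_of_le (by exact_mod_cast (by norm_num : (3 : ℕ) < 4)) hK)
    refine lineCore x y ψ S hψy a Y' t (ht 0) (ht 1) ?_ (ht 2)
    rw [Set.mem_ofPred_eq]
    apply not_isScal_of_char_two h2
    · have := det_sub_vecMulVec y (t • ψ) S (by rw [smul_dotProduct, hψy, smul_zero])
      rw [Matrix.smul_vecMul, vecMulVec_smul] at this
      rw [this, hS]
    · have := ht 2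
      simp only [Matrix.cons_val] at this
      rw [Set.mem_ofPred_eq, sub_right_comm] at this
      exact this
  · have hK5 := five_le_card hK h2
    obtain ⟨t, ht⟩ := exists_forall_notMem_of_subsingleton
      ![{t : K | a + t * (ψ ⬝ᵥ Y') = 0},
        {t : K | x + t • (ψ ᵥ* (S - 1)) = 0},
        {t : K | IsScal (S - t • vecMulVec y (ψ ᵥ* S))},
        {t : K | R1 (S - 1 - t • vecMulVec y (ψ ᵥ* S))}]
      (by
        intro i
        fin_cases i
        · exact subsingleton_affine a _ ha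
        · exact subsingleton_vec x _ hx
        · exact subsingleton_isScal_line le_rfl y ψ S hS hy hψ
        · exact hb)
      (lt_of_lt_of_le (by exact_mod_cast (by norm_num : (4 : ℕ) < 5)) hK5)
    exact lineCore x y ψ S hψy a Y' t (ht 0) (ht 1) (ht 2) (ht 3)

end two

end Cfsg.Agent.Lib.Helper53.RegUnip
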