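import Cfsg.Agent.Lib.Helper53.RegUnip.Reg
import Cfsg.Agent.Lib.Helper53.RegUnip.Convert

/-!
# The transvection case
-/

set_option autoImplicit false
set_option linter.unusedSectionVars false

namespace Cfsg.Agent.Lib.Helper53.RegUnip

open Matrix Module Cfsg.Agent.Lib.Helper43

variable {K : Type*} [Field K] {n : ℕ}

theorem shiftMat_pow_ne_zero (hn : 1 ≤ n) : (shiftMat n K) ^ (n - 1) ≠ 0 := by
  intro h
  have h1 := shiftMat_pow_mulVec (F := K) (n - 1) (Pi.single (⟨n - 1, by omega⟩ : Fin n) 1)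
    (⟨0, by omega⟩ : Fin n)
  rw [h, Matrix.zero_mulVec] at h1
  have h2 : (0 : ℕ) + (n - 1) < n := by omega
  simp only [Pi.zero_apply] at h1
  rw [dif_pos h2] at h1
  have h3 : (⟨0 + (n - 1), h2⟩ : Fin n) = ⟨n - 1, by omega⟩ := by
    apply Fin.ext; simp
  rw [h3, Pi.single_eq_same] at h1
  exact zero_ne_one h1

theorem regU_one_add_shiftMat (hn : 1 ≤ n) : RegU (1 + shiftMat n K) := by
  unfold RegU
  rw [add_sub_cancel_left]
  exact ⟨shiftMat_pow_eq_zero, shiftMat_pow_ne_zero hn⟩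

theorem shiftMat_mulVec_single_zero (hn : 1 ≤ n) :
    shiftMat n K *ᵥ Pi.single (⟨0, by omega⟩ : Fin n) 1 = 0 := by
  ext i
  rw [shiftMat_mulVec]
  split_ifs with h
  · rw [Pi.single_eq_of_ne]
    · rfl
    · intro h0
      have := congrArg Fin.val h0
      simp at this
  · rfl

theorem single_last_vecMul_shiftMat (hn : 1 ≤ n) :
    Pi.single (⟨n - 1, by omega⟩ : Fin n) 1 ᵥ* shiftMat n K = 0 := by
  ext j
  rw [Matrix.single_one_vecMul]
  simp only [shiftMat, Matrix.of_apply, Matrix.row_apply, Pi.zero_apply]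
  rw [if_neg]
  have := j.2
  omega

/-- powers of `N + E` when `N E = E N = E E = 0` -/
theorem add_pow_of_mul_eq_zero (N E : Matrix (Fin n) (Fin n) K) (hNE : N * E = 0)
    (hEN : E * N = 0) (hEE : E * E = 0) (k : ℕ) : (N + E) ^ (k + 2) = N ^ (k + 2) := by
  induction k with
  | zero =>
    rw [zero_add, pow_two, pow_two, Matrix.add_mul, Matrix.mul_add, Matrix.mul_add, hNE, hEN,
      hEE, add_zero, add_zero, add_zero]
  | succ k ih =>
    rw [pow_succ, ih, Matrix.mul_add, ← pow_succ]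
    have : N ^ (k + 2) * E = 0 := by
      rw [pow_succ, Matrix.mul_assoc, hNE, Matrix.mul_zero]
    rw [this, add_zero]

/-- a transvection is a product of two regular unipotent matrices, `n ≥ 3` -/
theorem transvection_case (hn : 3 ≤ n) (g : Matrix (Fin n) (Fin n) K) (hR : R1 (g - 1))
    (hdet : g.det = 1) (hne : g ≠ 1) : ∃ B C, g = B * C ∧ RegU B ∧ RegU C := by
  obtain ⟨a, α, hg⟩ := hR.exists_vecMulVec
  have hg1 : g = 1 + vecMulVec a α := by rw [← hg]; abel
  have ha : a ≠ 0 := by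
    rintro rfl
    apply hne
    rw [hg1]
    have : vecMulVec (0 : Fin n → K) α = 0 := vecMulVec_eq_zero.mpr (Or.inl rfl)
    rw [this, add_zero]
  have hα : α ≠ 0 := by
    rintro rfl
    apply hne
    rw [hg1]
    have : vecMulVec a (0 : Fin n → K) = 0 := vecMulVec_eq_zero.mpr (Or.inr rfl)
    rw [this, add_zero]
  have hαa : α ⬝ᵥ a = 0 := by
    rw [hg1, det_one_add_vecMulVec] at hdet
    linear_combination hdet
  set i₀ : Fin n := ⟨0, by omega⟩ with hi₀
  set i₁ : Fin n := ⟨n - 1, by omega⟩ with hi₁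
  have h01 : i₁ ≠ i₀ := by
    intro h
    have := congrArg Fin.val h
    simp only [hi₀, hi₁] at this
    omega
  obtain ⟨P, Q, hPQ, hQP, hPa, hQα⟩ := exists_basis_change_two i₀ i₁ h01 a α ha hα hαa
  set N : Matrix (Fin n) (Fin n) K := shiftMat n K with hN
  set E : Matrix (Fin n) (Fin n) K := vecMulVec (Pi.single i₀ 1) (Pi.single i₁ 1) with hE
  have hQa : Q *ᵥ a = Pi.single i₀ 1 := by
    rw [← hPa, Matrix.mulVec_mulVec, hQP, Matrix.one_mulVec]
  have hαP : α ᵥ* P = Pi.single i₁ 1 := by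
    rw [← hQα, Matrix.vecMul_vecMul, hQP, Matrix.vecMul_one]
  have hconj : Q * g * P = 1 + E := by
    rw [hg1, Matrix.mul_add, Matrix.add_mul, Matrix.mul_one, hQP, mul_vecMulVec, vecMulVec_mul,
      hQa, hαP]
  have hNE : N * E = 0 := by
    rw [hE, mul_vecMulVec, hN, hi₀, shiftMat_mulVec_single_zero (by omega)]
    exact vecMulVec_eq_zero.mpr (Or.inl rfl)
  have hEN : E * N = 0 := by
    rw [hE, vecMulVec_mul, hN, hi₁, single_last_vecMul_shiftMat (by omega)]
    exact vecMulVec_eq_zero.mpr (Or.inr rfl)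
  have hEE : E * E = 0 := by
    rw [hE, vecMulVec_mul, vecMul_vecMulVec, single_one_dotProduct, Pi.single_eq_of_ne h01,
      zero_smul]
    exact vecMulVec_eq_zero.mpr (Or.inr rfl)
  set J₀ : Matrix (Fin n) (Fin n) K := 1 + N with hJ₀
  have hJdet : IsUnit J₀.det := by
    rw [hJ₀, hN, det_one_add_shiftMat]; exact isUnit_one
  have hJ₀reg : RegU J₀ := regU_one_add_shiftMat (by omega)
  have hB₀ : RegU J₀⁻¹ :=
    hJ₀reg.inv (Matrix.mul_nonsing_inv J₀ hJdet) (Matrix.nonsing_inv_mul J₀ hJdet)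
  set C₀ : Matrix (Fin n) (Fin n) K := J₀ * (1 + E) with hC₀
  have hC₀1 : C₀ - 1 = N + E := by
    rw [hC₀, hJ₀, Matrix.add_mul, Matrix.one_mul, Matrix.mul_add, Matrix.mul_one, hNE]
    abel
  have hC₀reg : RegU C₀ := by
    unfold RegU
    rw [hC₀1]
    have hpow : ∀ m, 2 ≤ m → (N + E) ^ m = N ^ m := by
      intro m hm
      obtain ⟨k, rfl⟩ : ∃ k, m = k + 2 := ⟨m - 2, by omega⟩
      exact add_pow_of_mul_eq_zero N E hNE hEN hEE k
    refine ⟨?_, ?_⟩
    · rw [hpow n (by omega)]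
      exact shiftMat_pow_eq_zero
    · rw [hpow (n - 1) (by omega)]
      exact shiftMat_pow_ne_zero (by omega)
  have hprod : 1 + E = J₀⁻¹ * C₀ := by
    rw [hC₀, ← Matrix.mul_assoc, Matrix.nonsing_inv_mul J₀ hJdet, Matrix.one_mul]
  refine ⟨P * J₀⁻¹ * Q, P * C₀ * Q, ?_, hB₀.conj P Q hPQ hQP, hC₀reg.conj P Q hPQ hQP⟩
  calc g = (P * Q) * g * (P * Q) := by rw [hPQ, Matrix.one_mul, Matrix.mul_one]
    _ = P * (Q * g * P) * Q := by simp only [Matrix.mul_assoc]
    _ = P * (J₀⁻¹ * C₀) * Q := by rw [hconj, hprod]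
    _ = P * J₀⁻¹ * (Q * P) * C₀ * Q := by rw [hQP]; simp only [Matrix.mul_assoc, Matrix.one_mul]
    _ = P * J₀⁻¹ * Q * (P * C₀ * Q) := by simp only [Matrix.mul_assoc]

end Cfsg.Agent.Lib.Helper53.RegUnip
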