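import Cfsg.Agent.Lib.Helper53.RegUnip.Eigen

/-!
# The base case: `2 × 2` matrices
-/

set_option autoImplicit false

namespace Cfsg.Agent.Lib.Helper53.RegUnip

open Matrix Cardinal

variable {K : Type*} [Field K]

/-- the perpendicular of a vector in the plane -/
def perp (b : Fin 2 → K) : Fin 2 → K := ![-b 1, b 0]

theorem perp_dot_self (b : Fin 2 → K) : perp b ⬝ᵥ b = 0 := by
  simp [perp, dotProduct, Fin.sum_univ_two]
  ring

theorem perp_dot (b c : Fin 2 → K) : perp b ⬝ᵥ c = b 0 * c 1 - b 1 * c 0 := by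
  simp [perp, dotProduct, Fin.sum_univ_two]
  ring

theorem perp_dot_ne_zero (b c : Fin 2 → K) (hc : c ≠ 0) (h : ∀ μ : K, b ≠ μ • c) :
    perp b ⬝ᵥ c ≠ 0 := by
  rw [perp_dot]
  intro h0
  by_cases hc0 : c 0 = 0
  · have hc1 : c 1 ≠ 0 := by
      intro hc1
      apply hc
      ext i
      fin_cases i
      · exact hc0
      · exact hc1
    apply h (b 1 / c 1)
    ext i
    fin_cases i
    · simp only [Fin.zero_eta, Pi.smul_apply, smul_eq_mul, hc0, mul_zero]
      rw [hc0, mul_zero, sub_zero] at h0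
      rcases mul_eq_zero.mp h0 with h1 | h1
      · exact h1
      · exact absurd h1 hc1
    · simp only [Fin.mk_one, Pi.smul_apply, smul_eq_mul]
      field_simp
  · apply h (b 0 / c 0)
    ext i
    fin_cases i
    · simp only [Fin.zero_eta, Pi.smul_apply, smul_eq_mul]
      field_simp
    · simp only [Fin.mk_one, Pi.smul_apply, smul_eq_mul]
      field_simp
      linear_combination -h0

theorem R1_of_det_eq_zero_two (M : Matrix (Fin 2) (Fin 2) K) (h : M.det = 0) : R1 M := by
  rw [Matrix.det_fin_two] at h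
  intro i k j l
  fin_cases i <;> fin_cases k <;> fin_cases j <;> fin_cases l <;> simp <;>
    first | ring1 | linear_combination h | linear_combination -h

theorem sq_eq_zero_two (N : Matrix (Fin 2) (Fin 2) K) (htr : N 0 0 + N 1 1 = 0)
    (hdet : N.det = 0) : N ^ 2 = 0 := by
  rw [Matrix.det_fin_two] at hdet
  rw [pow_two]
  ext i j
  rw [Matrix.mul_apply, Fin.sum_univ_two]
  fin_cases i <;> fin_cases j <;> simp
  · linear_combination N 0 0 * htr - hdet
  · linear_combination N 0 1 * htr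
  · linear_combination N 1 0 * htr
  · linear_combination N 1 1 * htr - hdet

/-- the base case of the induction -/
theorem good_two (g : Matrix (Fin 2) (Fin 2) K) (hdet : g.det = 1) (hg : GP g)
    (Y X : Fin 2 → K) (hY : Y ≠ 0) (hX : X ≠ 0) : Good g Y X := by
  obtain ⟨hR, hS⟩ := hg
  set h : Matrix (Fin 2) (Fin 2) K := g - 1 with hh
  have hg1 : g = 1 + h := by rw [hh]; abel
  have hdh : h.det ≠ 0 := fun h0 => hR (R1_of_det_eq_zero_two h h0)
  have hdh1 : (1 + h).det ≠ 0 := by rw [← hg1, hdet]; exact one_ne_zero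
  have hns : ¬ IsScal h := by
    rintro ⟨c, hc⟩
    apply hS
    refine ⟨c + 1, ?_⟩
    rw [hg1, hc, add_smul, one_smul, add_comm]
  obtain ⟨c, hcX, hcY, hce⟩ := exists_noneigen h hdh hdh1 hns (kerDot X) (preLine h Y)
    (kerDot_ne_top hX) (preLine_ne_top hR Y)
  have hXc : X ⬝ᵥ c ≠ 0 := fun h0 => hcX (mem_kerDot.mpr h0)
  have hc0 : c ≠ 0 := by
    rintro rfl
    exact hcX (Submodule.zero_mem _)
  set b : Fin 2 → K := h *ᵥ c with hb
  have hbY : ∀ μ : K, b ≠ μ • Y := by
    intro μ hμ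
    exact hcY (mem_preLine.mpr ⟨μ, hμ.symm⟩)
  have hb0 : b ≠ 0 := by
    intro h0
    apply hce 0
    rw [zero_smul]
    exact h0
  set δ : K := perp b ⬝ᵥ c with hδ
  have hδ0 : δ ≠ 0 := perp_dot_ne_zero b c hc0 hce
  have hpY : perp b ⬝ᵥ Y ≠ 0 := perp_dot_ne_zero b Y hY hbY
  set M : Matrix (Fin 2) (Fin 2) K := vecMulVec b (perp b) with hM
  have hMM : M * M = 0 := by
    rw [hM, vecMulVec_mul_vecMulVec, perp_dot_self, zero_smul]
    ext i j
    simp [vecMulVec_apply]
  set B : Matrix (Fin 2) (Fin 2) K := 1 + δ⁻¹ • M with hB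
  set C : Matrix (Fin 2) (Fin 2) K := (1 - δ⁻¹ • M) * g with hC
  have hBB : B * (1 - δ⁻¹ • M) = 1 := by
    rw [hB]
    have : (1 + δ⁻¹ • M) * (1 - δ⁻¹ • M) = 1 - (δ⁻¹ * δ⁻¹) • (M * M) := by
      rw [Matrix.add_mul, Matrix.mul_sub, Matrix.mul_sub, Matrix.one_mul, Matrix.one_mul,
        Matrix.mul_one, Matrix.smul_mul, Matrix.mul_smul, smul_smul]
      abel
    rw [this, hMM, smul_zero, sub_zero]
  have hBC : g = B * C := by
    rw [hC, ← Matrix.mul_assoc, hBB, Matrix.one_mul]
  have hB1 : B - 1 = δ⁻¹ • M := by rw [hB]; abel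
  have hCc : C *ᵥ c = c := by
    rw [hC, ← Matrix.mulVec_mulVec, hg1, Matrix.add_mulVec, Matrix.one_mulVec, ← hb,
      Matrix.sub_mulVec, Matrix.one_mulVec, Matrix.smul_mulVec, hM, Matrix.mulVec_add,
      vecMulVec_mulVec, vecMulVec_mulVec, perp_dot_self, ← hδ]
    ext i
    simp only [Pi.add_apply, Pi.sub_apply, Pi.smul_apply, MulOpposite.smul_eq_mul_unop,
      MulOpposite.unop_op, smul_eq_mul]
    field_simp
    ring
  set N : Matrix (Fin 2) (Fin 2) K := C - 1 with hN
  have hNc : N *ᵥ c = 0 := by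
    rw [hN, Matrix.sub_mulVec, Matrix.one_mulVec, hCc, sub_self]
  have hNdet : N.det = 0 := Matrix.exists_mulVec_eq_zero_iff.mp ⟨c, hc0, hNc⟩
  have hCdet : C.det = 1 := by
    rw [hC, Matrix.det_mul, hdet, mul_one, hM]
    rw [Matrix.det_fin_two]
    simp only [Matrix.sub_apply, Matrix.one_apply_eq, Matrix.smul_apply, vecMulVec_apply,
      smul_eq_mul, Matrix.one_apply_ne, ne_eq, zero_ne_one, one_ne_zero, not_false_eq_true,
      zero_sub, perp]
    simp
    ring
  have hNtr : N 0 0 + N 1 1 = 0 := by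
    have h1 := hNdet
    have h2 := hCdet
    rw [Matrix.det_fin_two] at h1 h2
    have e00 : N 0 0 = C 0 0 - 1 := by rw [hN]; simp
    have e11 : N 1 1 = C 1 1 - 1 := by rw [hN]; simp
    have e01 : N 0 1 = C 0 1 := by rw [hN]; simp
    have e10 : N 1 0 = C 1 0 := by rw [hN]; simp
    rw [e00, e11, e01, e10] at h1
    rw [e00, e11]
    linear_combination h2 - h1
  have hN2 : N ^ 2 = 0 := sq_eq_zero_two N hNtr hNdet
  refine ⟨B, C, hBC, ?_, ?_, ?_, ?_⟩
  · rw [Fintype.card_fin, hB1, pow_two, Matrix.smul_mul, Matrix.mul_smul, hMM]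
    simp
  · rw [Fintype.card_fin]; exact hN2
  · rw [Fintype.card_fin, hB1, show (2 : ℕ) - 1 = 1 from rfl, pow_one]
    rw [Matrix.smul_mulVec, hM, vecMulVec_mulVec]
    intro h0
    have h1 := congrFun h0
    obtain ⟨i, hi⟩ : ∃ i, b i ≠ 0 := by
      by_contra hcon
      push Not at hcon
      exact hb0 (funext hcon)
    have h2 := h1 i
    simp only [Pi.smul_apply, MulOpposite.smul_eq_mul_unop, MulOpposite.unop_op, smul_eq_mul,
      Pi.zero_apply] at h2
    rcases mul_eq_zero.mp h2 with h3 | h3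
    · exact (inv_ne_zero hδ0) h3
    · rcases mul_eq_zero.mp h3 with h4 | h4
      · exact hi h4
      · exact hpY h4
  · rw [Fintype.card_fin, show (2 : ℕ) - 1 = 1 from rfl, pow_one, ← hN]
    intro h0
    -- `X ᵥ* N = 0`, `N c = 0`, `tr N = 0` force `N = 0`
    have hx0 := congrFun h0 0
    have hx1 := congrFun h0 1
    have hc0' := congrFun hNc 0
    have hc1' := congrFun hNc 1
    simp only [Matrix.vecMul, dotProduct, Fin.sum_univ_two, Pi.zero_apply] at hx0 hx1
    simp only [Matrix.mulVec, dotProduct, Fin.sum_univ_two, Pi.zero_apply] at hc0' hc1'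
    have hσ : X 0 * c 0 + X 1 * c 1 ≠ 0 := by
      simpa [dotProduct, Fin.sum_univ_two] using hXc
    have hN0 : N = 0 := by
      ext i j
      have key : (X 0 * c 0 + X 1 * c 1) * N i j = 0 := by
        fin_cases i <;> fin_cases j <;> simp only [Fin.zero_eta, Fin.mk_one]
        · linear_combination c 0 * hx0 - X 1 * hc1' + X 1 * c 1 * hNtr
        · linear_combination c 0 * hx1 + X 1 * hc0' - X 1 * c 0 * hNtr
        · linear_combination c 1 * hx0 + X 0 * hc1' - X 0 * c 1 * hNtr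
        · linear_combination c 1 * hx1 - X 0 * hc0' + X 0 * c 0 * hNtr
      rcases mul_eq_zero.mp key with h1 | h1
      · exact absurd h1 hσ
      · simpa using h1
    -- then `g - 1 = δ⁻¹ • M` has rank one
    apply hR
    have hC1 : C = 1 := by
      have : C - 1 = 0 := hN0
      exact sub_eq_zero.mp this
    have : h = δ⁻¹ • M := by
      rw [hh, hBC, hC1, Matrix.mul_one, hB1]
    rw [this, hM]
    have : δ⁻¹ • vecMulVec b (perp b) = vecMulVec (δ⁻¹ • b) (perp b) := by
      ext i j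
      simp [vecMulVec_apply, mul_assoc]
    rw [this]
    exact R1_vecMulVec _ _

end Cfsg.Agent.Lib.Helper53.RegUnip
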